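import Cfsg.Agent.FB.A0

/-! The hypotheses of the theorem give the basic data; the solvable case. -/

set_option autoImplicit false
set_option linter.unusedSectionVars false
set_option linter.unusedVariables false

namespace FB

open Subgroup

variable {G : Type*} [Group G] [Finite G] {D : Set (Subgroup G)} {p q r : ℕ} {m : Prop}
  {H K A B E P W : Subgroup G} {y : G}

theorem comm_of (gen : sSup D = ⊤) (h : ∀ A ∈ D, ∀ B ∈ D, A ≤ centralizer (B : Set G)) :
    IsMulCommutative G := by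
  have k : (⊤ : Subgroup G) ≤ centralizer ((⊤ : Subgroup G) : Set G) := by
    nth_rw 1 [← gen]
    refine sSup_le fun B hB => le_centralizer_iff.1 ?_
    rw [← gen]; exact sSup_le fun A hA => h A hA B hB
  exact ⟨⟨fun a b => k (mem_top b) a (mem_top a)⟩⟩

theorem comm' (hp : p.Prime) (hA : Nat.card A = p) : A ≤ centralizer (A : Set G) := by
  haveI := Fact.mk hp
  haveI := isCyclic_of_prime_card hA
  exact fun a ha b hb => congrArg Subtype.val (mul_comm' (⟨b, hb⟩ : A) ⟨a, ha⟩)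

theorem exBa (hG : ¬ IsMulCommutative G) (hp : p.Prime) (hp2 : p ≠ 2)
    (hDp : ∀ A ∈ D, Nat.card A = p)
    (hDinv : ∀ A ∈ D, ∀ g : G, cj g A ∈ D) (hDgen : sSup D = ⊤) {F : Type*} [Group F] [Finite F]
    (hF : Odd (Nat.card F)) (hpair : ∀ A ∈ D, ∀ B ∈ D, A ≠ B → Nonempty (↥(A ⊔ B) ≃* F)) :
    ∃ (q : ℕ) (m : Prop), Ba D p q m := by
  haveI := Fact.mk hp
  have cd : ∀ A ∈ D, ∀ B ∈ D, A ≠ B → Nat.card (A ⊔ B : Subgroup G) = Nat.card F :=
    fun A hA B hB ne => Nat.card_congr (hpair A hA B hB ne).some.toEquiv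
  have tr : ∀ A ∈ D, ∀ B ∈ D, A ≠ B → ∃ f : F →* G, Function.Injective f ∧
      (⊤ : Subgroup F).map f = A ⊔ B := fun A hA B hB ne => by
    obtain ⟨e⟩ := hpair A hA B hB ne
    refine ⟨(A ⊔ B).subtype.comp e.symm.toMonoidHom, (A ⊔ B).subtype_injective.comp e.symm.injective, ?_⟩
    rw [← map_map, map_top_of_surjective _ e.symm.surjective, ← MonoidHom.range_eq_map, range_subtype]
  have line : ∀ A ∈ D, ∀ B ∈ D, ∀ C ∈ D, ∀ E ∈ D, C ≠ E → C ≤ A ⊔ B → E ≤ A ⊔ B →
      C ⊔ E = A ⊔ B := fun A hA B hB C hC E hE ne h1 h2 => by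
    by_cases e : A = B
    · subst e
      rw [sup_idem] at h1 h2
      exact absurd ((eq_of_le_of_card_ge h1 (by rw [hDp A hA, hDp C hC])).trans
        (eq_of_le_of_card_ge h2 (by rw [hDp A hA, hDp E hE])).symm) ne
    · exact eq_of_le_of_card_ge (sup_le h1 h2) (by rw [cd A hA B hB e, cd C hC E hE ne])
  obtain ⟨A0, hA0, B0, hB0, nc⟩ : ∃ A ∈ D, ∃ B ∈ D, ¬ A ≤ centralizer (B : Set G) := by
    by_contra h
    push Not at h
    exact hG (comm_of hDgen h)
  have ne0 : A0 ≠ B0 := fun e => nc (e ▸ comm' hp (hDp A0 hA0))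
  have ncF : ∀ A ∈ D, ∀ B ∈ D, A ≠ B → ¬ A ⊔ B ≤ centralizer ((A ⊔ B : Subgroup G) : Set G) :=
    fun A hA B hB ne h => by
      obtain ⟨f, inj, e⟩ := tr A hA B hB ne
      obtain ⟨f0, -, e0⟩ := tr A0 hA0 B0 hB0 ne0
      rw [← commutator_eq_bot_iff_le_centralizer, ← e, ← map_commutator,
        map_eq_bot_iff_of_injective _ inj] at h
      have : ⁅A0 ⊔ B0, A0 ⊔ B0⁆ = ⊥ := by rw [← e0, ← map_commutator, h, Subgroup.map_bot]
      exact nc (le_sup_left.trans ((commutator_eq_bot_iff_le_centralizer.1 this).trans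
        (cen_anti le_sup_right)))
  have pr : ∀ A ∈ D, ∀ B ∈ D, A ≠ B → ∃ r : ℕ, r.Prime ∧ p ≠ r ∧ ∃ P : Subgroup G, IsPGroup r P ∧
      r ∣ Nat.card P ∧ A ⊔ B ≤ normalizer (P : Set G) ∧ P ⊔ A = A ⊔ B ∧
      Nat.card F = Nat.card P * p := fun A hA B hB ne => by
    obtain ⟨r, hr, P, h1, h2, h3, C, hC, h4, y, hy, h5⟩ := ex_mv hp hDp
      (FT.ftThm _ (cd A hA B hB ne ▸ hF)) (sp_sup (sp_mem hA) (sp_mem hB)) (ncF A hA B hB ne)
    haveI := Fact.mk hr
    have e := line A hA B hB C hC _ (hDinv C hC y) h5.symm h4 (cj_le (h1 hy) h4)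
    have e2 : P ⊔ C = A ⊔ B :=
      le_antisymm (sup_le h1 h4) (e.ge.trans (sup_le le_sup_right (cj_le_sup hy)))
    have pC : ∀ C ∈ D, IsPGroup p C := fun C hC => .of_card (n := 1) (by rw [hDp C hC, pow_one])
    have ne' : p ≠ r := by
      rintro rfl
      have := nil_cj (H := A ⊔ B) (e2 ▸ (h3.to_sup_of_normal_left' (pC C hC) (h4.trans h2)).isNilpotent)
        h4 (h1 hy) e.ge
      exact h5 (eq_of_le_of_card_ge ((cj_le (h1 hy) h4).trans this) (H4.card_conjS y C).ge)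
    have cs : ∀ C ∈ D, C ≤ A ⊔ B → Nat.card (P ⊔ C : Subgroup G) = Nat.card P * p := fun C hC h => by
      rw [H5.card_sup_of_disjoint (h.trans h2) (disjoint_iff.1
        (IsPGroup.disjoint_of_ne r p ne'.symm _ _ h3 (pC C hC))), hDp C hC]
    refine ⟨r, hr, ne', P, h3, ?_, h2, eq_of_le_of_card_ge (sup_le h1 le_sup_left)
      (by rw [cs A hA le_sup_left, ← cs C hC h4, e2]), by rw [← cs C hC h4, e2, cd A hA B hB ne]⟩
    refine (h3.card_eq_or_dvd).resolve_left fun h => h5 ?_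
    rw [card_eq_one.1 h, mem_bot] at hy
    rw [hy, cj_one]
  obtain ⟨q, hq, pq, P0, h1, h2, -, -, h3⟩ := pr A0 hA0 B0 hB0 ne0
  refine ⟨q, ⁅⁅(⊤ : Subgroup F), (⊤ : Subgroup F)⁆, ⁅(⊤ : Subgroup F), (⊤ : Subgroup F)⁆⁆ = ⊥,
    ⟨hp, hq, hp2, ?_, pq, hDp, hDinv, line⟩, fun A hA B hB => ?_, fun A hA B hB ne => ?_⟩
  · rintro rfl
    exact hF.not_two_dvd_nat (h3 ▸ h2.mul_right p)
  · by_cases e : A = B
    · subst e
      exact ⟨⊥, IsPGroup.of_bot, le_normalizer_of_normal, by simp⟩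
    · obtain ⟨r, hr, -, P, k1, k2, k3, k4, k5⟩ := pr A hA B hB e
      haveI := Fact.mk hq
      obtain ⟨i, hi⟩ := h1.exists_card_eq
      rw [Nat.eq_of_mul_eq_mul_right hp.pos (k5.symm.trans h3), hi] at k2
      rw [(Nat.prime_dvd_prime_iff_eq hr hq).1 (hr.dvd_of_dvd_pow k2)] at k1
      exact ⟨P, k1, k3, k4⟩
  · obtain ⟨f, inj, e⟩ := tr A hA B hB ne
    rw [← e, ← map_commutator, ← map_commutator, map_eq_bot_iff_of_injective _ inj]

theorem b1 (b : Ba D p q m) (gen : sSup D = ⊤) (hs : Group.IsSolvable G) :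
    ∃ K : Subgroup G, K.Normal ∧ IsPGroup q K ∧ ∀ A ∈ D, K ⊔ A = ⊤ := by
  have n := b.toNm
  haveI := Fact.mk n.hp; haveI := Fact.mk n.hq
  set K := Cfsg.pCore q G
  have hK : IsPGroup q K := H4.isPGroup_pCore q G
  set f := QuotientGroup.mk' K with hf
  have sf : Function.Surjective f := QuotientGroup.mk'_surjective K
  have triv : ∀ N : Subgroup (G ⧸ K), N.Normal → IsPGroup q N → N = ⊥ := fun N h1 h2 => by
    rw [← map_comap_eq_self_of_surjective sf N, Subgroup.map_eq_bot_iff, QuotientGroup.ker_mk']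
    exact H4.le_pCore inferInstance (h2.comap_of_ker_isPGroup f (by rwa [QuotientGroup.ker_mk']))
  have card : ∀ A ∈ D, Nat.card (A.map f) = p := fun A hA => by
    rw [← n.card A hA, ← relIndex_ker, QuotientGroup.ker_mk', ← inf_relIndex_right, n.disj hA hK,
      relIndex_bot_left]
  have ab : (⊤ : Subgroup (G ⧸ K)) ≤ centralizer ((⊤ : Subgroup (G ⧸ K)) : Set (G ⧸ K)) := by
    by_contra nc
    obtain ⟨r, hr, P, -, h2, h3, _, ⟨A, hA, rfl⟩, -, y, hy, h5⟩ :=
      ex_mv (D := (fun A : Subgroup G => A.map f) '' D) n.hp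
        (by rintro _ ⟨A, hA, rfl⟩; exact card A hA) inferInstance (eq_top_iff.2 (by
          nth_rw 1 [← map_top_of_surjective f sf, ← gen, map_le_iff_le_comap]
          exact sSup_le fun A hA => map_le_iff_le_comap.1 (le_sp ⟨A, hA, rfl⟩ le_top))) nc
    haveI := Fact.mk hr
    by_cases e : r = q
    · subst e
      rw [triv P (H4.normal_of_top_le_normalizer h2) h3, mem_bot] at hy
      exact h5 (by rw [hy, cj_one])
    obtain ⟨y, rfl⟩ := sf y
    obtain ⟨Q, k1, k2, k3⟩ := b.h0 A hA _ (n.inv A hA y)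
    have k4 := congrArg (Subgroup.map f) k3
    rw [Subgroup.map_sup, Subgroup.map_sup, map_cj] at k4
    have k5 : Q.map f = ⊥ := by
      refine card_eq_one.1 (((k1.map f).card_eq_or_dvd).resolve_right fun h => ?_)
      have := (h.trans (card_dvd_of_le (le_sup_left.trans (k4.le.trans
        (sup_le le_sup_right (cj_le_sup hy)))))).trans (H5.card_sup_dvd (le_top.trans h2))
      obtain ⟨i, hi⟩ := h3.exists_card_eq
      rw [hi, card A hA] at this
      rcases (Nat.Prime.dvd_mul n.hq).1 this with h | h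
      · exact e ((Nat.prime_dvd_prime_iff_eq n.hq hr).1 (n.hq.dvd_of_dvd_pow h)).symm
      · exact n.pq ((Nat.prime_dvd_prime_iff_eq n.hq n.hp).1 h).symm
    rw [k5, bot_sup_eq] at k4
    exact h5 (eq_of_le_of_card_ge (le_sup_right.trans k4.ge) (H4.card_conjS _ _).ge)
  refine ⟨K, inferInstance, hK, fun A hA => eq_top_iff.2 (gen.ge.trans (sSup_le fun B hB => ?_))⟩
  obtain ⟨Q, k1, k2, k3⟩ := b.h0 A hA B hB
  have := triv (Q.map f) ⟨fun x hx g => by
    rwa [ab (mem_top x) g (mem_top g), mul_inv_cancel_right]⟩ (k1.map f)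
  rw [Subgroup.map_eq_bot_iff, QuotientGroup.ker_mk'] at this
  exact le_sup_right.trans (k3.ge.trans (sup_le_sup_right this A))

end FB
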