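import Cfsg.Agent.FB.R

/-! A noncentral normal prime-power subgroup moves a member. -/

set_option autoImplicit false
set_option linter.unusedSectionVars false
set_option linter.unusedVariables false

namespace FB

open Subgroup
open scoped commutatorElement

variable {G : Type*} [Group G] [Finite G] {D : Set (Subgroup G)} {p q r : ℕ} {m : Prop}
  {H K A B E P W : Subgroup G} {y : G}

theorem ex_nc (hs : Group.IsSolvable H) (hc : ¬ H ≤ centralizer (H : Set G)) :
    ∃ r : ℕ, r.Prime ∧ ∃ P ≤ H, H ≤ normalizer (P : Set G) ∧ IsPGroup r P ∧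
      ¬ P ≤ centralizer (H : Set G) := by
  obtain ⟨M, ⟨h1, h2, h3⟩, mn⟩ := Set.exists_min_image
    {M : Subgroup G | M ≤ H ∧ H ≤ normalizer (M : Set G) ∧ ¬ M ≤ centralizer (H : Set G)}
    (fun M => Nat.card M) (Set.toFinite _) ⟨H, le_rfl, le_normalizer, hc⟩
  have lt := H5.commutator_lt_self (H5.isSolvable_of_le h1 hs) fun e => h3 (e ▸ bot_le)
  have h4 : ⁅M, M⁆ ≤ centralizer (H : Set G) := by
    by_contra h
    exact lt.ne (eq_of_le_of_card_ge lt.le
      (mn _ ⟨lt.le.trans h1, H4.le_normalizer_commutator h2 h2, h⟩))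
  have nil : Group.IsNilpotent M := Subgroup.isNilpotent_of_ker_le_center
    (Abelianization.of (G := M)) fun x hx => by
      have : x.1 ∈ ⁅M, M⁆ := by
        rw [← map_subtype_commutator]; exact ⟨x, (QuotientGroup.eq_one_iff x).1 hx, rfl⟩
      exact mem_center_iff.2 fun g => Subtype.ext (h4 this g (h1 g.2))
  by_contra k
  push Not at k
  refine h3 (H4.le_of_forall_primePow fun q hq x hx ⟨i, hi⟩ => ?_)
  haveI := Fact.mk hq
  exact k q hq _ ((H4.pCoreIn_le q M).trans h1) (h2.trans (H4.normalizer_le_normalizer_pCoreIn q M))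
    (H4.isPGroup_pCoreIn q M) (H4.mem_pCoreIn_of_isNilpotent nil hx hi)

theorem inf' (hp : p.Prime) (hA : Nat.card A = p) (W : Subgroup G) : W ⊓ A = ⊥ ∨ A ≤ W := by
  have h := card_dvd_of_le (inf_le_right : W ⊓ A ≤ A)
  rw [hA] at h
  rcases (Nat.dvd_prime hp).1 h with h | h
  · exact .inl (card_eq_one.1 h)
  · exact .inr (inf_eq_right.1 (eq_of_le_of_card_ge inf_le_right (by rw [h, hA])))

theorem ne_bot' (hp : p.Prime) (hA : Nat.card A = p) : A ≠ ⊥ := fun h =>
  hp.one_lt.ne' (by rw [← hA, h, card_bot])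

theorem mv (hp : p.Prime) (hr : r.Prime) (hE : Nat.card E = p) (hP : IsPGroup r P)
    (hn : E ≤ normalizer (P : Set G)) (hy : y ∈ P) (h : y ∈ normalizer (E : Set G)) :
    y ∈ centralizer (E : Set G) := by
  haveI := Fact.mk hr
  rcases inf' hp hE P with e | e
  · intro a ha
    have h1 : y * a * y⁻¹ * a⁻¹ ∈ P ⊓ E := ⟨by
      have := (mem_normalizer_iff.1 (hn ha) y⁻¹).1 (P.inv_mem hy)
      simpa [mul_assoc] using P.mul_mem hy this,
      E.mul_mem ((mem_normalizer_iff.1 h a).1 ha) (E.inv_mem ha)⟩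
    rw [e, mem_bot] at h1
    exact (commutatorElement_eq_one_iff_mul_comm.1 h1).symm
  · obtain ⟨z, hz, z1, zc⟩ := H4.exists_mem_center_of_isNilpotent (H := zpowers y ⊔ E) (N := E)
      (hP.to_le (sup_le (zpowers_le.2 hy) e)).isNilpotent le_sup_right
      (sup_le (zpowers_le.2 h) le_normalizer) (ne_bot' hp hE)
    rcases inf' hp hE (centralizer {y}) with e' | e'
    · exact absurd (mem_bot.1 (e' ▸ (⟨mem_centralizer_singleton_iff.2
        (zc y (mem_sup_left (mem_zpowers y))).symm, hz⟩ : z ∈ centralizer {y} ⊓ E))) z1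
    · exact le_cen.1 e'

theorem ex_mv (hp : p.Prime) (card : ∀ A ∈ D, Nat.card A = p) (hs : Group.IsSolvable H)
    (sH : sp D H = H) (hc : ¬ H ≤ centralizer (H : Set G)) :
    ∃ r : ℕ, r.Prime ∧ ∃ P ≤ H, H ≤ normalizer (P : Set G) ∧ IsPGroup r P ∧
      ∃ A ∈ D, A ≤ H ∧ ∃ y ∈ P, cj y A ≠ A := by
  obtain ⟨r, hr, P, h1, h2, h3, h4⟩ := ex_nc hs hc
  refine ⟨r, hr, P, h1, h2, h3, ?_⟩
  by_contra k
  push Not at k
  refine h4 fun y hy => le_cen.1 (sH.ge.trans (sp_le_iff.2 fun A hA AH => le_cen.2 ?_))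
  exact mv hp hr (card A hA) h3 (AH.trans h2) hy (cj_eq_iff.1 (k A hA AH y hy))

theorem cj_le_sup (hy : y ∈ P) : cj y A ≤ P ⊔ A := cj_le (mem_sup_left hy) le_sup_right

theorem cj_le_comm (hy : y ∈ P) : cj y A ≤ ⁅P, A⁆ ⊔ A := by
  rintro _ ⟨a, ha, rfl⟩
  have := mul_mem (mem_sup_left (T := A) (commutator_mem_commutator hy ha)) (mem_sup_right ha)
  simpa [commutatorElement_def] using this

/-- in a nilpotent group a proper subgroup and a conjugate do not generate -/
theorem nil_cj (hH : Group.IsNilpotent H) (AH : A ≤ H) (hy : y ∈ H) (h : H ≤ A ⊔ cj y A) :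
    H ≤ A := by
  rcases eq_top_or_exists_le_coatom (A.subgroupOf H) with e | ⟨M, hM, e⟩
  · exact subgroupOf_eq_top.1 e
  · haveI := NormalizerCondition.normal_of_coatom M normalizerCondition_of_isNilpotent hM
    have h1 : A ≤ M.map H.subtype := by
      rw [← map_subgroupOf_eq_of_le AH]; exact map_mono e
    have h2 : cj y A ≤ M.map H.subtype := by
      have := map_cj H.subtype ⟨y, hy⟩ M
      rw [show cj (⟨y, hy⟩ : H) M = M from H4.conjS_eq_of_normal _ M] at this
      exact (cj_mono y h1).trans this.ge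
    refine absurd (eq_top_iff.2 fun x _ => ?_) hM.1
    obtain ⟨x', hx, e⟩ := (h.trans (sup_le h1 h2)) x.2
    rwa [← Subtype.ext e]

theorem der_le (hn : B ≤ normalizer (W : Set G)) (hB : B ≤ centralizer (B : Set G)) :
    ⁅W ⊔ B, W ⊔ B⁆ ≤ W := by
  refine commutator_le.2 fun x hx y hy => ?_
  obtain ⟨u, hu, b, hb, rfl⟩ := (H4.mem_sup_of_le_normalizer_left hn).1 hx
  obtain ⟨v, hv, c, hc, rfl⟩ := (H4.mem_sup_of_le_normalizer_left hn).1 hy
  have e : ⁅u * b, v * c⁆ = u * (b * v * b⁻¹) * (c * u⁻¹ * c⁻¹) * v⁻¹ := by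
    have : b⁻¹ * c = c * b⁻¹ := hB hc _ (B.inv_mem hb)
    simp only [commutatorElement_def, mul_inv_rev]
    calc _ = u * b * v * (c * b⁻¹) * u⁻¹ * c⁻¹ * v⁻¹ := by group
      _ = _ := by rw [← this]; group
  rw [e]
  exact W.mul_mem (W.mul_mem (W.mul_mem hu (nor_conj (hn hb) hv)) (nor_conj (hn hc) (W.inv_mem hu)))
    (W.inv_mem hv)

end FB
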