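import Cfsg.Agent.FB.Bas
import Cfsg.Agent.H4.Layer

/-! The solvable case: `G = O_q(G) A`. -/

set_option autoImplicit false
set_option linter.unusedSectionVars false
set_option linter.unusedVariables false

namespace FB

open Subgroup Cfsg

section core
variable {X : Type*} [Group X] [Finite X] {E : Set (Subgroup X)} {p q : ℕ}

theorem b1_cen (hp : p.Prime) {r : ℕ} (hr : r.Prime) {A P : Subgroup X} [P.Normal]
    (hP : IsPGroup r P) (hA : Nat.card A ∣ p) {y : X} (hy : y ∈ P) (h : cj y A ≤ A) :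
    y ∈ centralizer (A : Set X) := by
  haveI := Fact.mk hr
  have hn : y ∈ normalizer (A : Set X) := cj_eq_iff.1 (eq_of_le_of_card_ge h
    (card_map_of_injective (MulAut.conj y).injective).ge)
  have h1 := (card_dvd_of_le (inf_le_right : P ⊓ A ≤ A)).trans hA
  rcases (Nat.dvd_prime hp).1 h1 with h1 | h1
  · intro a ha
    have h2 : y * a * y⁻¹ * a⁻¹ ∈ P ⊓ A := ⟨by
      simpa [mul_assoc] using P.mul_mem hy (‹P.Normal›.conj_mem _ (P.inv_mem hy) a),
      A.mul_mem (h (cj_mem ha)) (A.inv_mem ha)⟩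
    rw [card_eq_one.1 h1, mem_bot, mul_inv_eq_one, mul_inv_eq_iff_eq_mul] at h2
    exact h2.symm
  have h2 : Nat.card A = p := Nat.dvd_antisymm hA (h1 ▸ card_dvd_of_le inf_le_right)
  have h3 : A ≤ P := inf_eq_right.1 (eq_of_le_of_card_ge inf_le_right (by rw [h1, h2]))
  obtain ⟨z, zA, z1, hz⟩ := H4.exists_mem_center_of_isNilpotent
    (H := P ⊓ normalizer (A : Set X)) (N := A) (hP.to_le inf_le_left).isNilpotent
    (le_inf h3 le_normalizer) inf_le_right (fun e => hp.one_lt.ne' (by rw [← h2, e, card_bot]))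
  have h4 : zpowers z = A := by
    have h5 := card_dvd_of_le (zpowers_le.2 zA)
    rw [h2] at h5
    rcases (Nat.dvd_prime hp).1 h5 with h6 | h6
    · exact absurd (zpowers_eq_bot.1 (card_eq_one.1 h6)) z1
    · exact eq_of_le_of_card_ge (zpowers_le.2 zA) (by rw [h6, h2])
  rw [← h4]
  rintro _ ⟨i, rfl⟩
  exact ((show Commute y z from hz y ⟨hy, hn⟩).zpow_right i).eq.symm

theorem b1_core (hp : p.Prime) (hq : q.Prime) (pq : p ≠ q) [Group.IsSolvable X]
    (h0 : pCore q X = ⊥) (gen : sSup E = ⊤) (hE : ∀ A ∈ E, Nat.card A ∣ p)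
    (inv : ∀ A ∈ E, ∀ g, cj g A ∈ E)
    (hQ : ∀ A ∈ E, ∀ B ∈ E, ∃ Q : Subgroup X, IsPGroup q Q ∧ Q ⊔ A = A ⊔ B) :
    ∀ A ∈ E, A = ⊤ := by
  have h1 : ∀ r : ℕ, r.Prime → pCore r X ≤ center X := fun r hr y hy => by
    by_cases rq : r = q
    · rw [rq, h0, mem_bot] at hy
      exact hy ▸ one_mem _
    have h2 : ∀ A ∈ E, A ≤ centralizer {y} := fun A hA => by
      obtain ⟨Q, Q1, Q2⟩ := hQ A hA _ (inv A hA y)
      have h3 : Q ≤ pCore r X ⊔ A := (le_sup_left.trans Q2.le).trans (sup_le le_sup_right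
        (cj_le (mem_sup_left hy) le_sup_right))
      have h4 : Nat.card Q ∣ Nat.card (pCore r X) * p := (card_dvd_of_le h3).trans (by
        have := (pCore r X).relIndex_dvd_card A
        rw [← relIndex_sup_left, ← mul_dvd_mul_iff_left (Nat.card_pos (α := pCore r X)).ne']
          at this
        refine Dvd.dvd.trans (dvd_of_eq ?_) (this.trans (mul_dvd_mul_left _ (hE A hA)))
        rw [← card_mul_index ((pCore r X).subgroupOf (pCore r X ⊔ A)),
          Nat.card_congr (subgroupOfEquivOfLe le_sup_left).toEquiv]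
        rfl)
      haveI := Fact.mk hr
      haveI := Fact.mk hq
      obtain ⟨i, hi⟩ := Q1.exists_card_eq
      obtain ⟨j, hj⟩ := (H4.isPGroup_pCore r X).exists_card_eq
      have h5 : Q = ⊥ := by
        rw [hi, hj] at h4
        rw [← card_eq_one, hi]
        exact Nat.Coprime.eq_one_of_dvd (Nat.Coprime.pow_left _ (Nat.Coprime.mul_right
          (((Nat.coprime_primes hq hr).2 (Ne.symm rq)).pow_right _)
          ((Nat.coprime_primes hq hp).2 pq.symm))) h4
      have h6 := b1_cen hp hr (H4.isPGroup_pCore r X) (hE A hA) hy (by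
        rw [h5, bot_sup_eq] at Q2
        exact le_sup_right.trans Q2.ge)
      exact fun a ha => mem_centralizer_singleton_iff.2 (h6 a ha)
    have h3 : sSup E ≤ centralizer {y} := sSup_le h2
    rw [gen] at h3
    exact mem_center_iff.2 fun g => mem_centralizer_singleton_iff.1 (h3 (mem_top g))
  have h2 : fittingSubgroup X ≤ center X := by
    rw [H4.fitting_eq_iSup]
    exact iSup₂_le h1
  have h3 : ∀ g : X, g ∈ center X := fun g => h2 (H4.centralizer_fitting_le fun a ha =>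
    (mem_center_iff.1 (h2 ha) g).symm)
  intro A hA
  rw [eq_top_iff, ← gen]
  refine sSup_le fun B hB => ?_
  obtain ⟨Q, Q1, Q2⟩ := hQ A hA B hB
  have h4 : Q ≤ ⊥ := h0 ▸ H4.le_pCore ⟨fun a ha g => by
    rwa [mem_center_iff.1 (h3 a) g, mul_inv_cancel_right]⟩ Q1
  rw [le_bot_iff.1 h4, bot_sup_eq] at Q2
  exact le_sup_right.trans Q2.ge

end core

variable {G : Type*} [Group G] [Finite G] {D : Set (Subgroup G)} {p q : ℕ} {m : Prop}

theorem b1 (b : Ba D p q m) (gen : sSup D = ⊤) (hs : Group.IsSolvable G) :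
    ∃ K : Subgroup G, K.Normal ∧ IsPGroup q K ∧ ∀ A ∈ D, K ⊔ A = ⊤ := by
  refine ⟨pCore q G, inferInstance, H4.isPGroup_pCore q G, fun A hA => ?_⟩
  have h := b1_core (X := G ⧸ pCore q G)
    (E := (fun A : Subgroup G => A.map (QuotientGroup.mk' _)) '' D) b.hp b.hq b.pq
    (H4.pCore_quotient_pCore q G) (by
      rw [sSup_image, ← map_top_of_surjective _ (QuotientGroup.mk'_surjective _), ← gen,
        sSup_eq_iSup]
      simp only [Subgroup.map_iSup]) (by
      rintro _ ⟨B, hB, rfl⟩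
      exact b.card B hB ▸ card_map_dvd _ _) (by
      rintro _ ⟨B, hB, rfl⟩ g
      obtain ⟨g, rfl⟩ := QuotientGroup.mk'_surjective _ g
      refine ⟨_, b.inv B hB g, ?_⟩
      simp only [map_map]
      congr 1) (by
      rintro _ ⟨B, hB, rfl⟩ _ ⟨C, hC, rfl⟩
      obtain ⟨Q, Q1, -, Q2⟩ := b.h0 B hB C hC
      exact ⟨Q.map (QuotientGroup.mk' _), Q1.map _, by simp only [← Subgroup.map_sup, Q2]⟩) _ ⟨A, hA, rfl⟩
  have := congrArg (comap (QuotientGroup.mk' (pCore q G))) h
  rwa [comap_map_eq, QuotientGroup.ker_mk', comap_top, sup_comm] at this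

end FB
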