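import Cfsg.Agent.FB.A
import Cfsg.Agent.H4.KM1
import Cfsg.Agent.H5.Gen

/-! The affine structure in the solvable case. -/

set_option autoImplicit false
set_option linter.unusedSectionVars false
set_option linter.unusedVariables false

namespace FB

open Subgroup
open scoped commutatorElement

universe u

theorem fpf {p q : ℕ} (hp : p.Prime) (p2 : p ≠ 2) (hq : q.Prime) (pq : p ≠ q) (n : ℕ) :
    ∀ (G : Type u) [Group G] [Finite G] (K : Subgroup G) [K.Normal] (a : G), Nat.card G = n →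
    IsPGroup q K → a ^ p = 1 → K ⊔ zpowers a = ⊤ → ⁅K, zpowers a⁆ = K →
    (∀ x ∈ K, Commute ⁅x, a⁆ (a * ⁅x, a⁆ * a⁻¹)) → ∀ x ∈ K, Commute x a → x = 1 := by
  induction n using Nat.strong_induction_on with
  | _ n ih =>
  intro G _ _ K _ a hn hK ha sup cm h x0 hx0 c0
  haveI := Fact.mk hq
  by_contra x1
  have key : ∀ M : Subgroup G, M.Normal → M ≠ ⊥ → ∀ x ∈ K, ⁅x, a⁆ ∈ M → x ∈ M := by
    intro M _ hM x hx hc
    set f := QuotientGroup.mk' M
    have sf : Function.Surjective f := QuotientGroup.mk'_surjective M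
    haveI : (K.map f).Normal := Normal.map inferInstance f sf
    refine (QuotientGroup.eq_one_iff x).1 (ih _ ?_ (G ⧸ M) (K.map f) (f a) rfl (hK.map f)
      (by rw [← map_pow, ha, map_one])
      (by rw [← MonoidHom.map_zpowers, ← Subgroup.map_sup, sup, map_top_of_surjective f sf])
      (by rw [← MonoidHom.map_zpowers, ← map_commutator, cm]) ?_ (f x) ⟨x, hx, rfl⟩ ?_)
    · rw [← hn, ← card_mul_index M, ← index_eq_card]
      exact lt_mul_left (Nat.pos_of_ne_zero index_ne_zero_of_finite) ((one_lt_card_iff_ne_bot M).2 hM)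
    · rintro _ ⟨y, hy, rfl⟩
      simpa [map_commutatorElement] using (h y hy).map f
    · rw [← commutatorElement_eq_one_iff_commute, ← map_commutatorElement]
      exact (QuotientGroup.eq_one_iff _).2 hc
  have k0 : ∀ M : Subgroup G, M.Normal → M ≠ ⊥ → x0 ∈ M := fun M h1 h2 =>
    key M h1 h2 x0 hx0 (by rw [c0.commutator_eq]; exact one_mem _)
  have cop : ∀ V ≤ K, (Nat.card (zpowers a)).Coprime (Nat.card V) := fun V hV => by
    obtain ⟨i, hi⟩ := (hK.to_le hV).exists_card_eq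
    rw [hi, Nat.card_zpowers]
    exact (((Nat.coprime_primes hp hq).2 pq).pow_right i).coprime_dvd_left (orderOf_dvd_of_pow_eq_one ha)
  have ca : ∀ x, Commute x a → x ∈ centralizer (zpowers a : Set G) := fun x hx => by
    rintro _ ⟨i, rfl⟩; exact (hx.zpow_right i).symm.eq
  have ctr : K ⊓ centralizer (K : Set G) ≤ center G := by
    have hb : ⁅K ⊓ centralizer (K : Set G), zpowers a⁆ = ⊥ := by
      by_contra hb
      have := H5.commutator_inf_centralizer_eq_bot (V := K ⊓ centralizer (K : Set G))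
        ⟨⟨fun u v => Subtype.ext (v.2.2 u u.2.1)⟩⟩ le_normalizer_of_normal (cop _ inf_le_left)
      refine x1 (mem_bot.1 (this ▸ ⟨k0 _ (H4.normal_of_top_le_normalizer ?_) hb, ca x0 c0⟩))
      rw [← sup]
      refine sup_le (le_trans ?_ (centralizer_le_normalizer _)) (normalizer_commutator_ge_right _ _)
      exact le_centralizer_iff.1 ((commutator_le_left _ _).trans inf_le_right)
    intro z hz
    have : ⊤ ≤ centralizer {z} := by
      rw [← sup]
      exact sup_le (le_cen.2 hz.2) (le_cen.2 (commutator_eq_bot_iff_le_centralizer.1 hb hz))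
    exact mem_center_iff.2 fun g => mem_centralizer_singleton_iff.1 (this (mem_top g))
  have K1 : K ≠ ⊥ := fun e => x1 (mem_bot.1 (e ▸ hx0))
  have Z1 : center G ≠ ⊥ := fun e => by
    obtain ⟨z, h1, h2, h3⟩ := H4.exists_mem_center_of_isNilpotent hK.isNilpotent le_rfl le_normalizer K1
    exact h2 (mem_bot.1 (e ▸ ctr ⟨h1, h3⟩))
  have kz := key _ inferInstance Z1
  -- every element of `K` commutes with its image
  have all : ∀ y ∈ K, Commute y (a * y * a⁻¹) := by
    set f := QuotientGroup.mk' (center G)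
    haveI : (K.map f).Normal := Normal.map inferInstance f (QuotientGroup.mk'_surjective _)
    let φ : K.map f → K.map f := fun x => ⟨⁅x.1, f a⁆, commutator_le_left _ ⊤
      (commutator_mem_commutator x.2 (mem_top _))⟩
    have inj : Function.Injective φ := by
      rintro ⟨_, u, hu, rfl⟩ ⟨_, v, hv, rfl⟩ e
      have e1 : ⁅f u, f a⁆ = ⁅f v, f a⁆ := congrArg Subtype.val e
      have e2 : f ⁅v⁻¹ * u, a⁆ = 1 := by
        rw [map_commutatorElement, map_mul, map_inv]
        calc _ = (f v)⁻¹ * ⁅f u, f a⁆ * (⁅f v, f a⁆⁻¹ * (f v)) * 1 * (f a * (f v)⁻¹ * (f a)⁻¹ * ⁅f v, f a⁆⁻¹ * f v)⁻¹ * (f a * (f v)⁻¹ * (f a)⁻¹ * ⁅f v, f a⁆⁻¹ * f v) * ((f v)⁻¹ * ⁅f v, f a⁆ * f a * f v * (f a)⁻¹) := by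
              simp only [commutatorElement_def]; group
          _ = 1 := by rw [e1]; simp only [commutatorElement_def]; group
      have := (QuotientGroup.eq_one_iff _).2 (kz _ (K.mul_mem (K.inv_mem hv) hu)
        ((QuotientGroup.eq_one_iff _).1 e2))
      exact Subtype.ext (QuotientGroup.eq.2 ((QuotientGroup.eq_one_iff _).1 this)).symm
    intro y hy
    obtain ⟨⟨_, x, hx, rfl⟩, e⟩ := Finite.surjective_of_injective inj ⟨f y, y, hy, rfl⟩
    have e1 : f ⁅x, a⁆ = f y := by rw [map_commutatorElement]; exact congrArg Subtype.val e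
    obtain ⟨c, hc, rfl⟩ := (QuotientGroup.mk'_eq_mk' _).1 e1
    have c1 : ∀ g, Commute c g := fun g => (mem_center_iff.1 hc g).symm
    have : a * (⁅x, a⁆ * c) * a⁻¹ = a * ⁅x, a⁆ * a⁻¹ * c := by
      rw [← mul_assoc, mul_assoc _ c, (c1 _).eq, ← mul_assoc]
    rw [this]
    exact ((h x hx).mul_left (c1 _)).mul_right (c1 _).symm
  obtain ⟨W, ⟨h1, h2, h3⟩, mn⟩ := Set.exists_min_image
    {W : Subgroup G | W ≤ K ∧ W.Normal ∧ ¬ W ≤ center G} (fun M => Nat.card M) (Set.toFinite _)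
    ⟨K, le_rfl, inferInstance, fun e => K1 (by
      rw [← cm, commutator_eq_bot_iff_le_centralizer]; exact e.trans (center_le_centralizer _))⟩
  have lt := H5.commutator_lt_of_isNilpotent (K := W) (P := K) le_normalizer_of_normal
    (by rw [sup_eq_right.2 h1]; exact hK.isNilpotent) fun e => h3 (e ▸ bot_le)
  have h4 : ⁅W, K⁆ ≤ center G := by
    by_contra h
    exact lt.ne (eq_of_le_of_card_ge lt.le (mn _ ⟨lt.le.trans h1, inferInstance, h⟩))
  refine h3 fun w hw => ?_
  -- `w⁻¹ a² w a⁻²` centralizes `K`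
  have h5 : ⁅w⁻¹, a * a⁆ ∈ center G := by
    refine ctr ⟨commutator_le_left _ ⊤ (commutator_mem_commutator (K.inv_mem (h1 hw)) (mem_top _)),
      fun y hy => ?_⟩
    have hz : a * w * a⁻¹ ∈ W := h2.conj_mem w hw a
    have hz2 : a * (a * w * a⁻¹) * a⁻¹ ∈ W := h2.conj_mem _ hz a
    have hy2 : a * y * a⁻¹ ∈ K := Normal.conj_mem inferInstance y hy a
    have c1 := mem_center_iff.1 (h4 (commutator_mem_commutator hw hy))
    have c2 := mem_center_iff.1 (h4 (commutator_mem_commutator hz2 hy))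
    have e1 := (all y hy).eq
    have e2 := (all _ (h1 hz)).eq
    have e3 := (all _ (K.mul_mem hy (h1 hz))).eq
    have e4 : ⁅a * w * a⁻¹, a * y * a⁻¹⁆ = ⁅w, y⁆ := by
      rw [← conjugate_commutatorElement, c1, mul_inv_cancel_right]
    have e5 : a * (y * (a * w * a⁻¹)) * a⁻¹ = (a * y * a⁻¹) * (a * (a * w * a⁻¹) * a⁻¹) := by group
    have e6 : ⁅w⁻¹, a * a⁆ = w⁻¹ * (a * (a * w * a⁻¹) * a⁻¹) := by
      simp only [commutatorElement_def]; group
    rw [e5] at e3
    rw [e6]
    generalize a * (a * w * a⁻¹) * a⁻¹ = z2 at *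
    generalize a * w * a⁻¹ = z at *
    generalize a * y * a⁻¹ = y2 at *
    have e7 : ⁅w, y⁆ = ⁅z2, y⁆ := by
      have l : y * z * (y2 * z2) = ⁅w, y⁆ * (y * y2 * (z * z2)) := by
        calc _ = y * ⁅z, y2⁆ * (y2 * (z * z2)) := by simp only [commutatorElement_def]; group
          _ = _ := by rw [e4, c1]; group
      have r : y2 * z2 * (y * z) = ⁅z2, y⁆ * (y * y2 * (z * z2)) := by
        calc _ = y2 * ⁅z2, y⁆ * (y * (z2 * z)) := by simp only [commutatorElement_def]; group
          _ = _ := by rw [c2, e1, e2]; group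
      exact mul_right_cancel (l.symm.trans (e3.trans r))
    simp only [commutatorElement_def, mul_left_inj] at e7
    calc y * (w⁻¹ * z2) = w⁻¹ * (w * y * w⁻¹) * z2 := by group
      _ = _ := by rw [e7]; group
  have h6 : ⁅w⁻¹, a⁆ ∈ center G := by
    set f := QuotientGroup.mk' (center G)
    have := (QuotientGroup.eq_one_iff _).2 h5
    rw [← QuotientGroup.eq_one_iff]
    change f _ = 1 at this ⊢
    rw [map_commutatorElement, commutatorElement_eq_one_iff_commute] at this ⊢
    obtain ⟨k, hk⟩ := hp.odd_of_ne_two p2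
    have e : a = (a * a) ^ (k + 1) := by
      rw [← pow_two, ← pow_mul, show 2 * (k + 1) = p + 1 by omega, pow_succ, ha, one_mul]
    rw [e, map_pow]; exact this.pow_right _
  simpa using (center G).inv_mem (kz _ (K.inv_mem (h1 hw)) h6)

variable {G : Type u} [Group G] [Finite G] {D : Set (Subgroup G)} {p q r : ℕ} {m : Prop}
  {H K A B E P W Q : Subgroup G} {y : G}

theorem qa (n : Nm D p q) (hA : A ∈ D) (hQ : IsPGroup q Q) (hn : A ≤ normalizer (Q : Set G))
    (s : sp D (Q ⊔ A) = Q ⊔ A) : ⁅Q, A⁆ = Q := by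
  haveI := Fact.mk n.hq; haveI := Fact.mk n.hp
  refine le_antisymm (H5.commutator_le_left_of_le_normalizer hn) fun u hu => ?_
  have : Q ⊔ A ≤ ⁅Q, A⁆ ⊔ A := s.ge.trans (sp_le_iff.2 fun B hB h => by
    obtain ⟨i, hi⟩ := hQ.exists_card_eq
    haveI := hQ.isNilpotent
    obtain ⟨k, hk, e⟩ := H5.exists_conj_eq hn (by
      rw [hi, n.card A hA]; exact ((Nat.coprime_primes n.hp n.hq).2 n.pq).pow_right _)
      (.inr inferInstance) h (by rw [n.card A hA, n.card B hB])
    have : cj k⁻¹ A = B := by rw [← e, cj_cj, inv_mul_cancel, cj_one]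
    rw [← this]; exact cj_le_comm (Q.inv_mem hk))
  obtain ⟨v, hv, a, ha, rfl⟩ := (H4.mem_sup_of_le_normalizer_left
    (normalizer_commutator_ge_right Q A)).1 (this (mem_sup_left hu))
  have : a ∈ Q ⊓ A := ⟨(Q.mul_mem_cancel_left (H5.commutator_le_left_of_le_normalizer hn hv)).1 hu, ha⟩
  rw [n.disj hA hQ, mem_bot] at this
  rwa [this, mul_one]

theorem b23 (b : Ba D p q m) (gen : sSup D = ⊤) [K.Normal] (hK : IsPGroup q K)
    (hs : ∀ A ∈ D, K ⊔ A = ⊤) : Af D q m ⊤ K := by
  have n := b.toNm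
  haveI := Fact.mk n.hq; haveI := Fact.mk n.hp
  have st : sp D ⊤ = ⊤ := eq_top_iff.2 (gen.ge.trans (sSup_le fun A hA => le_sp hA le_top))
  have ka : ∀ A ∈ D, ⁅K, A⁆ = K := fun A hA =>
    qa n hA hK le_normalizer_of_normal (by rw [hs A hA, st])
  have m2 : ¬ m → ⁅K, K⁆ ≤ centralizer ((⊤ : Subgroup G) : Set G) := fun hm => by
    by_contra h
    obtain ⟨W, ⟨h1, h2, h3⟩, mn⟩ := Set.exists_min_image
      {W : Subgroup G | W ≤ ⁅K, K⁆ ∧ W.Normal ∧ ¬ W ≤ centralizer ((⊤ : Subgroup G) : Set G)}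
      (fun M => Nat.card M) (Set.toFinite _) ⟨_, le_rfl, inferInstance, h⟩
    have WK : W ≤ K := h1.trans (commutator_le_left _ _)
    have lt := H5.commutator_lt_of_isNilpotent (K := W) (P := K) le_normalizer_of_normal
      (by rw [sup_eq_right.2 WK]; exact hK.isNilpotent) fun e => h3 (e ▸ bot_le)
    have h4 : ⁅W, K⁆ ≤ centralizer ((⊤ : Subgroup G) : Set G) := by
      by_contra h
      exact lt.ne (eq_of_le_of_card_ge lt.le (mn _ ⟨lt.le.trans h1, inferInstance, h⟩))
    have h5 : ⁅⁅W, K⁆, K⁆ = ⊥ := commutator_eq_bot_iff_le_centralizer.2 (h4.trans (cen_anti le_top))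
    have h6 : ⁅⁅K, K⁆, W⁆ = ⊥ :=
      commutator_commutator_eq_bot_of_rotate (by rwa [commutator_comm K W]) h5
    refine h3 fun w hw => le_cen.1 (gen.ge.trans (sSup_le fun B hB => le_cen.2 ?_))
    refine n.nc hB hK le_normalizer_of_normal (WK hw) (cj_eq_iff.1 ?_)
    by_contra ne
    refine hm ((b.md B hB _ (n.inv B hB w) (Ne.symm ne)).1 (eq_bot_iff.2 ?_))
    have l : B ⊔ cj w B ≤ W ⊔ B := sup_le le_sup_right (cj_le_sup hw)
    have l2 := (commutator_mono l l).trans (der_le le_normalizer_of_normal (n.comm hB))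
    exact (commutator_mono (l2.trans h1) l2).trans h6.le
  have m1 : m → ∀ A ∈ D, A ≤ ⊤ → K ⊓ centralizer (A : Set G) = ⊥ := fun hm A hA _ => by
    obtain ⟨a, ha, a1⟩ := (A.bot_or_exists_ne_one).resolve_left (n.ne_bot hA)
    have e := n.zp hA ha a1
    refine eq_bot_iff.2 fun x hx => fpf n.hp n.p2 n.hq n.pq _ G K a rfl hK (n.pow hA ha)
      (e ▸ hs A hA) (e ▸ ka A hA) (fun x hx => ?_) x hx.1 (hx.2 a ha).symm
    have hB := n.inv A hA x
    by_cases ne : A = cj x A
    · rw [commutatorElement_eq_one_iff_mul_comm.2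
        (n.nc hA hK le_normalizer_of_normal hx (cj_eq_iff.1 ne.symm) a ha).symm]
      exact Commute.one_left _
    obtain ⟨Q, k1, k2, k3⟩ := b.h0 A hA _ hB
    have k4 := qa n hA k1 (le_sup_left.trans k2) (by rw [k3, sp_sup (sp_mem hA) (sp_mem hB)])
    have k5 : Q ≤ ⁅A ⊔ cj x A, A ⊔ cj x A⁆ :=
      k4.ge.trans (commutator_mono (le_sup_left.trans k3.le) le_sup_left)
    have k6 : Q ≤ K := k5.trans ((commutator_mono (le_top.trans (hs A hA).ge)
      (le_top.trans (hs A hA).ge)).trans (der_le le_normalizer_of_normal (n.comm hA)))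
    have k7 : ⁅x, a⁆ ∈ Q := by
      obtain ⟨v, hv, c, hc, e⟩ := (H4.mem_sup_of_le_normalizer_left (le_sup_left.trans k2)).1
        (k3.ge (show ⁅x, a⁆ ∈ _ from mul_mem (mem_sup_right (cj_mem ha)) (mem_sup_left (A.inv_mem ha))))
      have : c ∈ K ⊓ A := ⟨(K.mul_mem_cancel_left (k6 hv)).1
        (e ▸ commutator_le_left K ⊤ (commutator_mem_commutator hx (mem_top a))), hc⟩
      rw [n.disj hA hK, mem_bot] at this
      rwa [← e, this, mul_one]
    exact (commutator_eq_bot_iff_le_centralizer.1 ((b.md A hA _ hB ne).2 hm)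
      (k5 (nor_conj (k2 (mem_sup_left ha)) k7)) _ (k5 k7))
  refine ⟨le_top, le_normalizer_of_normal, hK, fun A hA _ => hs A hA, fun A hA h => ?_, m1, m2⟩
  by_cases hm : m
  · rw [m1 hm A hA h]; exact bot_le
  · obtain ⟨i, hi⟩ := hK.exists_card_eq
    nth_rw 1 [← ka A hA]
    exact H4.commutator_inf_centralizer_le le_normalizer_of_normal (by
      rw [hi, n.card A hA]; exact ((Nat.coprime_primes n.hp n.hq).2 n.pq).pow_right _)
      le_normalizer_of_normal le_normalizer_of_normal (m2 hm)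

end FB
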