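import Cfsg.Agent.FB.Defs
import Cfsg.Agent.H5.InvSylow
import Cfsg.Agent.H4.Fitting

/-! Basic consequences of the affine data. -/

set_option autoImplicit false
set_option linter.unusedSectionVars false
set_option linter.unusedVariables false

namespace FB

open Subgroup
open H5 (IsSylowOf)

variable {G : Type*} [Group G] [Finite G] {D : Set (Subgroup G)} {p q : ℕ} {m : Prop}
  {H K A B C P W X : Subgroup G} {x y z g : G}

theorem Nm.inf (n : Nm D p q) (hA : A ∈ D) (W : Subgroup G) : W ⊓ A = ⊥ ∨ A ≤ W := by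
  have h := card_dvd_of_le (inf_le_right : W ⊓ A ≤ A)
  rw [n.card A hA] at h
  rcases (Nat.dvd_prime n.hp).1 h with h | h
  · exact .inl (card_eq_one.1 h)
  · exact .inr (inf_eq_right.1 (eq_of_le_of_card_ge inf_le_right (by rw [h, n.card A hA])))

theorem Nm.ne_bot (n : Nm D p q) (hA : A ∈ D) : A ≠ ⊥ := fun h =>
  n.hp.one_lt.ne' (by rw [← n.card A hA, h, card_bot])

theorem Nm.eq_of_le (n : Nm D p q) (hA : A ∈ D) (hB : B ∈ D) (h : A ≤ B) : A = B :=
  eq_of_le_of_card_ge h (by rw [n.card A hA, n.card B hB])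

theorem Nm.pg (n : Nm D p q) (hA : A ∈ D) : IsPGroup p A :=
  IsPGroup.of_card (n := 1) (by rw [n.card A hA, pow_one])

theorem Nm.pow (n : Nm D p q) (hA : A ∈ D) (hx : x ∈ A) : x ^ p = 1 := by
  rw [← n.card A hA]; exact congrArg Subtype.val (pow_card_eq_one' (G := A) (x := ⟨x, hx⟩))

theorem Nm.zp (n : Nm D p q) (hA : A ∈ D) (hx : x ∈ A) (h1 : x ≠ 1) : zpowers x = A := by
  rcases n.inf hA (zpowers x) with h | h
  · exact absurd (mem_bot.1 (h ▸ (⟨mem_zpowers x, hx⟩ : x ∈ zpowers x ⊓ A))) h1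
  · exact le_antisymm (zpowers_le.2 hx) h

theorem Nm.comm (n : Nm D p q) (hA : A ∈ D) : A ≤ centralizer (A : Set G) := by
  obtain ⟨a, a1⟩ := (A.bot_or_exists_ne_one).resolve_left (n.ne_bot hA)
  rw [← n.zp hA a1.1 a1.2]
  rintro _ ⟨i, rfl⟩ _ ⟨j, rfl⟩
  exact (Commute.zpow_zpow_self a j i).eq

theorem Nm.disj (n : Nm D p q) (hA : A ∈ D) (hK : IsPGroup q K) : K ⊓ A = ⊥ := by
  haveI := Fact.mk n.hp; haveI := Fact.mk n.hq
  exact disjoint_iff.1 (IsPGroup.disjoint_of_ne q p n.pq.symm _ _ hK (n.pg hA))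

theorem Nm.qodd (n : Nm D p q) (hK : IsPGroup q K) : Odd (Nat.card K) := by
  haveI := Fact.mk n.hq
  obtain ⟨k, e⟩ := hK.exists_card_eq
  rw [e]; exact (n.hq.odd_of_ne_two n.q2).pow

/-- an element normalizing a member and a `q`-group containing it centralizes the member -/
theorem Nm.nc (n : Nm D p q) (hA : A ∈ D) (hK : IsPGroup q K) (hn : A ≤ normalizer (K : Set G))
    (hx : x ∈ K) (h : x ∈ normalizer (A : Set G)) : x ∈ centralizer (A : Set G) := fun a ha => by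
  have h1 : x * a * x⁻¹ * a⁻¹ ∈ K ⊓ A := ⟨by
    have := (mem_normalizer_iff.1 (hn ha) x⁻¹).1 (K.inv_mem hx)
    simpa [mul_assoc] using K.mul_mem hx this,
    A.mul_mem ((mem_normalizer_iff.1 h a).1 ha) (A.inv_mem ha)⟩
  rw [n.disj hA hK, mem_bot] at h1
  exact (commutatorElement_eq_one_iff_mul_comm.1 h1).symm

namespace Af

theorem card (a : Af D q m H K) (n : Nm D p q) (hA : A ∈ D) (AH : A ≤ H) :
    Nat.card H = Nat.card K * p := by
  rw [← a.sup A hA AH, H5.card_sup_of_disjoint (AH.trans a.nor) (n.disj hA a.pg), n.card A hA]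

theorem odd (a : Af D q m H K) (n : Nm D p q) (hA : A ∈ D) (AH : A ≤ H) : Odd (Nat.card H) := by
  rw [a.card n hA AH]; exact (n.qodd a.pg).mul (n.hp.odd_of_ne_two n.p2)

theorem dec (a : Af D q m H K) (hA : A ∈ D) (AH : A ≤ H) (hx : x ∈ H) :
    ∃ k ∈ K, ∃ b ∈ A, k * b = x := by
  rwa [← a.sup A hA AH, H4.mem_sup_of_le_normalizer_left (AH.trans a.nor)] at hx

theorem sylK (a : Af D q m H K) (n : Nm D p q) (hA : A ∈ D) (AH : A ≤ H) : IsSylowOf q K H := by
  refine ⟨a.le, a.pg, fun h => n.pq ?_⟩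
  have := H5.card_mul_relIndex a.le
  rw [a.card n hA AH] at this
  rw [Nat.eq_of_mul_eq_mul_left Nat.card_pos this] at h
  exact ((Nat.prime_dvd_prime_iff_eq n.hq n.hp).1 h).symm

theorem sylA (a : Af D q m H K) (n : Nm D p q) (hA : A ∈ D) (AH : A ≤ H) : IsSylowOf p A H := by
  haveI := Fact.mk n.hq
  refine ⟨AH, n.pg hA, fun h => n.pq ?_⟩
  have := H5.card_mul_relIndex AH
  rw [a.card n hA AH, n.card A hA, mul_comm (Nat.card K)] at this
  obtain ⟨k, e⟩ := a.pg.exists_card_eq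
  rw [Nat.eq_of_mul_eq_mul_left n.hp.pos this, e] at h
  exact (Nat.prime_dvd_prime_iff_eq n.hp n.hq).1 (n.hp.dvd_of_dvd_pow h)

/-- `q`-subgroups of `H` lie in `K` -/
theorem le_of (a : Af D q m H K) (n : Nm D p q) (hA : A ∈ D) (AH : A ≤ H) (hP : IsPGroup q P)
    (PH : P ≤ H) : P ≤ K := by
  haveI := Fact.mk n.hq
  exact (a.sylK n hA AH).le_of_le_normalizer' hP PH (PH.trans a.nor)

theorem mono (a : Af D q m H K) (n : Nm D p q) (hA : A ∈ D) (AH : A ≤ H) {H' K' : Subgroup G}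
    (a' : Af D q m H' K') (h : H ≤ H') : K ≤ K' :=
  a'.le_of n hA (AH.trans h) a.pg (a.le.trans h)

theorem conj (a : Af D q m H K) (n : Nm D p q) (hA : A ∈ D) (AH : A ≤ H) (hB : B ∈ D)
    (BH : B ≤ H) : ∃ x ∈ K, cj x A = B := by
  haveI := Fact.mk n.hp
  obtain ⟨k, hk, e⟩ := (a.sylA n hA AH).exists_conj (a.sylA n hB BH)
  obtain ⟨x, hx, b, hb, rfl⟩ := a.dec hA AH hk
  exact ⟨x, hx, ((cj_cj x b A).symm.trans (congrArg (cj x) (cj_eq_iff.2 (le_normalizer hb)))).symm.trans e⟩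

theorem nc (a : Af D q m H K) (n : Nm D p q) (hA : A ∈ D) (AH : A ≤ H) (hx : x ∈ K)
    (h : x ∈ normalizer (A : Set G)) : x ∈ centralizer (H : Set G) :=
  a.cen A hA AH ⟨hx, n.nc hA a.pg (AH.trans a.nor) hx h⟩

/-- the normalizer of `H` normalizes `K` -/
theorem norK (a : Af D q m H K) (n : Nm D p q) (hA : A ∈ D) (AH : A ≤ H) :
    normalizer (H : Set G) ≤ normalizer (K : Set G) := fun g hg =>
  H4.mem_normalizer_of_conjS_le (a.le_of n hA AH (a.pg.map _)
    ((cj_mono g a.le).trans (cj_eq_iff.2 hg).le))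

theorem cm (a : Af D q m H K) (hm : ¬ m) (hx : x ∈ K) (hy : y ∈ K) :
    x * y * x⁻¹ * y⁻¹ ∈ K ⊓ centralizer (H : Set G) :=
  ⟨K.mul_mem (K.mul_mem (K.mul_mem hx hy) (K.inv_mem hx)) (K.inv_mem hy),
    a.m2 hm (commutator_mem_commutator hx hy)⟩

end Af

namespace Cf

theorem sp_top (c : Cf D p q m) : sp D ⊤ = ⊤ := by
  exact eq_top_iff.2 (c.gen.ge.trans (sSup_le fun A hA => le_sp hA le_top))

theorem cen_eq (c : Cf D p q m) (h : ∀ A ∈ D, z ∈ centralizer (A : Set G)) : z = 1 := by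
  have h1 : ⊤ ≤ centralizer ({z} : Set G) := by
    rw [← c.gen]; exact sSup_le fun A hA a ha => mem_centralizer_singleton_iff.2 (h A hA a ha)
  have h2 : z ∈ center G := mem_center_iff.2 fun g => mem_centralizer_singleton_iff.1 (h1 trivial)
  rwa [c.sol (center G) inferInstance 
    (isSolvable_of_comm fun a b => Subtype.ext (mem_center_iff.1 b.2 a)), mem_bot] at h2

/-- the members centralizing a nontrivial element generate a proper subgroup -/
theorem cen_ne (c : Cf D p q m) (z1 : z ≠ 1) : sp D (centralizer {z}) ≠ ⊤ := fun h =>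
  z1 (c.cen_eq fun A hA a ha => mem_centralizer_singleton_iff.1 (sp_le (h ▸ mem_top a)))

/-- the members normalizing a nontrivial `q`-group generate a proper subgroup -/
theorem nor_ne (c : Cf D p q m) (hP : IsPGroup q P) (P1 : P ≠ ⊥) :
    sp D (normalizer (P : Set G)) ≠ ⊤ := fun h => by
  haveI := Fact.mk c.hq
  haveI := hP.isNilpotent
  exact P1 (c.sol P (H4.normal_of_top_le_normalizer (h.ge.trans sp_le)) inferInstance)

/-- an element centralizing a maximal closed subgroup and a closed subgroup outside is trivial -/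
theorem max_cen (c : Cf D p q m) (hs : sp D H = H) (mx : ∀ W, W ≠ ⊤ → sp D W = W → H ≤ W → W = H)
    (sX : sp D X = X) (XH : ¬ X ≤ H) (h1 : z ∈ centralizer (H : Set G))
    (h2 : z ∈ centralizer (X : Set G)) : z = 1 := by
  by_contra z1
  have k : ∀ Y : Subgroup G, sp D Y = Y → z ∈ centralizer (Y : Set G) →
      Y ≤ sp D (centralizer {z}) := fun Y sY h =>
    sY.ge.trans (sp_mono fun y hy => mem_centralizer_singleton_iff.2 (h y hy))
  exact XH ((k X sX h2).trans (mx _ (c.cen_ne z1) sp_sp (k H hs h1)).le)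

theorem ex (c : Cf D p q m) : ∃ A, A ∈ D := by
  by_contra h
  push Not at h
  haveI := c.nt
  have := c.gen
  rw [Set.eq_empty_of_forall_notMem h, sSup_empty] at this
  exact bot_ne_top this

theorem af2 (c : Cf D p q m) (hA : A ∈ D) (hB : B ∈ D) : ∃ K, Af D q m (A ⊔ B) K :=
  c.af _ (c.two A hA B hB) (sp_sup (sp_mem hA) (sp_mem hB))

theorem conj (c : Cf D p q m) (hA : A ∈ D) (hB : B ∈ D) : ∃ x, cj x A = B := by
  obtain ⟨K, a⟩ := c.af2 hA hB
  obtain ⟨x, -, e⟩ := a.conj c.toNm hA le_sup_left hB le_sup_right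
  exact ⟨x, e⟩

end Cf

end FB
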