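import Cfsg.Agent.FB.M
import Cfsg.Agent.H7.Parity

/-! Involutions centralize the members they normalize. -/

set_option autoImplicit false
set_option linter.unusedSectionVars false
set_option linter.unusedVariables false

namespace FB

open Subgroup

variable {G : Type*} [Group G] [Finite G] {D : Set (Subgroup G)} {p q : ℕ} {m : Prop}
  {H K A B C P W X L R T : Subgroup G} {x y z g t : G}

theorem Cf.fix (c : Cf D p q m) (hH : H ≠ ⊤) (hs : sp D H = H) (hA : A ∈ D) (AH : A ≤ H)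
    (hT : IsPGroup 2 T) (hn : T ≤ normalizer (H : Set G)) :
    ∃ C ∈ D, C ≤ H ∧ T ≤ normalizer (C : Set G) := by
  haveI := Fact.mk c.hp
  obtain ⟨K, a⟩ := c.af H hH hs
  obtain ⟨k, e⟩ := hT.exists_card_eq
  haveI := hT.isNilpotent
  obtain ⟨P, hP, h⟩ := H5.exists_invariant_isSylowOf p hn
    (by rw [e]; exact (Nat.coprime_two_left.2 (a.odd c.toNm hA AH)).pow_left _) (.inl inferInstance)
  obtain ⟨x, -, rfl⟩ := (a.sylA c.toNm hA AH).exists_conj hP
  exact ⟨_, c.inv A hA x, hP.le, h⟩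

theorem Cf.fix2 (c : Cf D p q m) (hT : IsPGroup 2 T) : ∃ C ∈ D, T ≤ normalizer (C : Set G) := by
  obtain ⟨A, hA⟩ := c.ex
  obtain ⟨U, ⟨UT, B, hB, UB⟩, big⟩ := Set.exists_max_image
    {U : Subgroup G | U ≤ T ∧ ∃ C ∈ D, U ≤ normalizer (C : Set G)} (fun U => Nat.card U)
    (Set.toFinite _) ⟨⊥, bot_le, A, hA, bot_le⟩
  by_cases e : U = T
  · exact ⟨B, hB, e ▸ UB⟩
  exfalso
  obtain ⟨y, ⟨y1, y2⟩, y3⟩ := SetLike.exists_of_lt
    (H5.lt_inf_normalizer_of_isPGroup hT (lt_of_le_of_ne UT e))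
  obtain ⟨k, hk⟩ := hT ⟨y, y1⟩
  have ex : ∃ k, y ^ 2 ^ k ∈ U := ⟨k, by
    have : y ^ 2 ^ k = 1 := congrArg Subtype.val hk
    rw [this]; exact one_mem _⟩
  classical
  obtain ⟨j, hj⟩ : ∃ j, Nat.find ex = j + 1 := Nat.exists_eq_succ_of_ne_zero fun h =>
    y3 (by simpa [h] using Nat.find_spec ex)
  have w3 : y ^ 2 ^ j ∉ U := Nat.find_min ex (by omega)
  have w4 : y ^ 2 ^ j * y ^ 2 ^ j ∈ U := by
    have := Nat.find_spec ex
    rwa [hj, pow_succ, pow_mul, pow_two] at this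
  have w1 := T.pow_mem y1 (2 ^ j)
  have w2 := Subgroup.pow_mem _ y2 (2 ^ j)
  generalize y ^ 2 ^ j = w at w1 w2 w3 w4
  have h1 : U ⊔ zpowers w ≤ T := sup_le UT (zpowers_le.2 w1)
  obtain ⟨C, hC, -, h2⟩ := c.fix (c.two B hB _ (c.inv B hB w))
    (sp_sup (sp_mem hB) (sp_mem (c.inv B hB w))) hB le_sup_left (hT.to_le h1)
    (sup_le (H4.le_normalizer_sup UB fun u hu => cj_eq_iff.1 (by
      have := cj_eq_iff.2 (UB (nor_conj (Subgroup.inv_mem _ w2) hu))
      rw [cj_cj, show u * w = w * (w⁻¹ * u * w⁻¹⁻¹) by group, ← cj_cj, this]))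
    (zpowers_le.2 (cj_eq_iff.1 (by rw [cj_sup, cj_cj, cj_eq_iff.2 (UB w4), sup_comm]))))
  exact w3 (eq_of_le_of_card_ge le_sup_left (big _ ⟨h1, C, hC, h2⟩) ▸
    (mem_sup_right (mem_zpowers w) : w ∈ U ⊔ zpowers w))

theorem Cf.idx (c : Cf D p q m) (hA : A ∈ D) : ¬ 2 ∣ (normalizer (A : Set G)).index := by
  obtain ⟨S⟩ : Nonempty (Sylow 2 G) := inferInstance
  obtain ⟨C, hC, h⟩ := c.fix2 S.isPGroup'
  obtain ⟨x, rfl⟩ := c.conj hC hA
  intro h2
  refine (x • S).not_dvd_index (h2.trans (index_dvd_of_le ?_))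
  rw [← H4.conjS_normalizer x C]
  exact cj_mono x h

theorem Cf.cen_of (c : Cf D p q m) (hA : A ∈ D) (hB : B ∈ D) (h : t ∈ normalizer (A : Set G))
    (h' : t ∈ centralizer (B : Set G)) : t ∈ centralizer (A : Set G) := fun e he => by
  obtain ⟨K, a⟩ := c.af2 hA hB
  have tK := a.norK c.toNm hA le_sup_left
    (normalizer_inf_normalizer_le_normalizer_sup A B ⟨h, centralizer_le_normalizer _ h'⟩)
  obtain ⟨k, hk, b, hb, rfl⟩ := a.dec hB le_sup_right (mem_sup_left he)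
  have h1 : t * (k * b) * t⁻¹ * (k * b)⁻¹ ∈ K ⊓ A := ⟨by
    have : t * (k * b) * t⁻¹ * (k * b)⁻¹ = t * k * t⁻¹ * (t * b * (b * t)⁻¹) * k⁻¹ := by group
    rw [this, h' b hb, mul_inv_cancel, mul_one]
    exact K.mul_mem (nor_conj tK hk) (K.inv_mem hk), A.mul_mem (nor_conj h he) (A.inv_mem he)⟩
  rw [c.toNm.disj hA a.pg, mem_bot] at h1
  exact (commutatorElement_eq_one_iff_mul_comm.1 h1).symm

theorem Cf.cen2 (c : Cf D p q m) (ht : t * t = 1) (hA : A ∈ D) (h : t ∈ normalizer (A : Set G)) :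
    t ∈ centralizer (A : Set G) := by
  classical
  by_contra hn
  have cp := c.card A hA
  haveI : Fact (Nat.card A).Prime := ⟨cp ▸ c.hp⟩
  haveI : IsCyclic A := isCyclic_of_prime_card rfl
  haveI : Fact (2 < Nat.card A) := ⟨by have := c.hp.two_le; have := c.p2; omega⟩
  haveI := Fintype.ofFinite (G ⧸ normalizer (A : Set G))
  set ϕ : normalizer (A : Set G) →* (ZMod (Nat.card A))ˣ :=
    (IsCyclic.mulAutMulEquiv A).toMonoidHom.comp A.normalizerMonoidHom with hϕ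
  have h1 : ϕ.transfer.ker = ⊤ := by
    rw [eq_top_iff, ← c.gen]
    refine sSup_le fun B hB b hb => ?_
    have e1 : ϕ.transfer b ^ p = 1 := by rw [← map_pow, c.toNm.pow hB hb, map_one]
    have e2 : ϕ.transfer b ^ (Nat.card A - 1) = 1 := ZMod.units_pow_card_sub_one_eq_one _ _
    have e3 : p = Nat.card A - 1 + 1 := by have := c.hp.pos; omega
    rwa [e3, pow_succ, e2, one_mul] at e1
  have h2 : ϕ.transfer t = 1 := (h1 ▸ mem_top t : t ∈ ϕ.transfer.ker)
  rw [H7.transfer_eq_prod_fixed ϕ t fun g k hk hg => by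
    rcases Nat.even_or_odd' k with ⟨j, rfl | rfl⟩
    · rw [← map_one ϕ]; congr 1; ext; simp [pow_mul, pow_two, ht]
    · exact absurd (by simpa [pow_succ, pow_mul, pow_two, ht] using hk) hg] at h2
  have h3 : ∀ g : G, ∀ hc : g⁻¹ * t * g ∈ normalizer (A : Set G), ϕ ⟨_, hc⟩ = -1 := fun g hc => by
    have e1 : ϕ ⟨_, hc⟩ * ϕ ⟨_, hc⟩ = 1 := by
      rw [← map_mul, ← map_one ϕ]; congr 1; ext
      show g⁻¹ * t * g * (g⁻¹ * t * g) = 1
      rw [show g⁻¹ * t * g * (g⁻¹ * t * g) = g⁻¹ * (t * t) * g by group, ht]; group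
    rcases mul_self_eq_one_iff.1 (by simpa using congrArg Units.val e1 :
      ((ϕ ⟨_, hc⟩ : (ZMod (Nat.card A))ˣ) : ZMod (Nat.card A)) * ϕ ⟨_, hc⟩ = 1) with e | e
    · refine absurd (c.cen_of hA (c.inv A hA g) h ?_) hn
      have e2 : (⟨_, hc⟩ : normalizer (A : Set G)) ∈ A.normalizerMonoidHom.ker :=
        (IsCyclic.mulAutMulEquiv A).injective ((Units.ext e).trans (map_one _).symm)
      rw [normalizerMonoidHom_ker] at e2
      rw [← H4.conjS_centralizer g A]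
      exact mem_cj.2 e2
    · exact Units.ext e
  simp only [h3, dite_eq_ite, Finset.prod_ite, Finset.prod_const, one_pow, mul_one] at h2
  have h4 : IsPGroup 2 (zpowers t) := IsPGroup.of_card (n := 1) (by
    rw [Nat.card_zpowers, pow_one]
    exact orderOf_eq_prime (by rw [pow_two, ht]) fun e => hn (by rw [e]; exact one_mem _))
  have h5 := h4.card_modEq_card_fixedPoints (G ⧸ normalizer (A : Set G))
  have h6 : Nat.card (MulAction.fixedPoints (zpowers t) (G ⧸ normalizer (A : Set G))) =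
      (Finset.univ.filter fun x : G ⧸ normalizer (A : Set G) =>
        x.out⁻¹ * t * x.out ∈ normalizer (A : Set G)).card := by
    rw [← Fintype.card_subtype, ← Nat.card_eq_fintype_card]
    refine Nat.card_congr (Equiv.subtypeEquivRight fun x => ?_)
    have : x.out⁻¹ * t * x.out ∈ normalizer (A : Set G) ↔ t • x = x := by
      conv_rhs => rw [← x.out_eq', eq_comm]
      rw [MulAction.Quotient.smul_coe, QuotientGroup.eq, smul_eq_mul, mul_assoc]
    rw [this]
    exact ⟨fun h => h ⟨t, mem_zpowers t⟩, fun h g =>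
      (zpowers_le (H := MulAction.stabilizer G x)).2 h g.2⟩
  rw [h6] at h5
  have h7 := c.idx hA
  rw [Odd.neg_one_pow (by
    rw [index] at h7; rw [Nat.odd_iff]; unfold Nat.ModEq at h5; omega)] at h2
  exact ZMod.neg_one_ne_one (n := Nat.card A) (by simpa using congrArg Units.val h2)

end FB
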