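import Cfsg.Agent.FB.C1

/-! Central elements of invariant closed subgroups lie in the core of the involution centralizer. -/

set_option autoImplicit false
set_option linter.unusedSectionVars false
set_option linter.unusedVariables false

namespace FB

open Subgroup

variable {G : Type*} [Group G] [Finite G] {D : Set (Subgroup G)} {p q : ℕ} {m : Prop}
  {H K A B C P W X L R T : Subgroup G} {x y z g t s : G}

theorem pg2 (ht : t * t = 1) : IsPGroup 2 (zpowers t) := by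
  rintro ⟨_, k, rfl⟩
  refine ⟨1, Subtype.ext ?_⟩
  show (t ^ k) ^ 2 ^ 1 = 1
  rw [pow_one, ← zpow_natCast, ← zpow_mul, mul_comm, zpow_mul, zpow_natCast, pow_two, ht, one_zpow]

theorem le_cen : A ≤ centralizer {t} ↔ t ∈ centralizer (A : Set G) :=
  ⟨fun h _ ha => mem_centralizer_singleton_iff.1 (h ha),
    fun h a ha => mem_centralizer_singleton_iff.2 (h a ha)⟩

theorem cen_cj (h : t ∈ centralizer (A : Set G)) (g : G) :
    g * t * g⁻¹ ∈ centralizer (cj g A : Set G) := by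
  rw [← H4.conjS_centralizer g A]; exact cj_mem h

theorem cj_mul (h : cj g A = A) (x : G) : cj (x * g) A = cj x A := by rw [← cj_cj, h]

theorem swap_nor (ht : t * t = 1) (B : Subgroup G) :
    t ∈ normalizer ((B ⊔ cj t B : Subgroup G) : Set G) :=
  cj_eq_iff.1 (by rw [cj_sup, cj_cj, ht, cj_one, sup_comm])

theorem Cf.lfix (c : Cf D p q m) (ht : t * t = 1) (hB : B ∈ D) :
    ∃ C ∈ D, C ≤ B ⊔ cj t B ∧ t ∈ centralizer (C : Set G) := by
  obtain ⟨C, hC, h1, h2⟩ := c.fix (c.two B hB _ (c.inv B hB t))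
    (sp_sup (sp_mem hB) (sp_mem (c.inv B hB t))) hB le_sup_left (pg2 ht)
    (zpowers_le.2 (swap_nor ht B))
  exact ⟨C, hC, h1, c.cen2 ht hC (h2 (mem_zpowers t))⟩

theorem Cf.norW (c : Cf D p q m) (ht : t * t = 1) (sW : sp D W = W)
    (h : sp D (centralizer {t}) ≤ W) : t ∈ normalizer (W : Set G) := by
  refine H4.mem_normalizer_of_conjS_le (map_le_iff_le_comap.2 (sW.ge.trans
    (sp_le_iff.2 fun B hB BW => map_le_iff_le_comap.1 ?_)))
  obtain ⟨C, hC, h1, h2⟩ := c.lfix ht hB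
  by_cases e : C = B
  · exact (cj_eq_iff.2 (centralizer_le_normalizer _ (e ▸ h2))).le.trans BW
  exact le_sup_right.trans ((c.line B hB _ (c.inv B hB t) C hC B hB e h1 le_sup_left).ge.trans
    (sup_le ((le_sp hC (le_cen.2 h2)).trans h) BW))

theorem Cf.refl (c : Cf D p q m) (hm : ¬ m) (hs : s * s = 1) (hC : C ∈ D)
    (sC : s ∈ centralizer (C : Set G)) (u : ∀ E ∈ D, s ∈ centralizer (E : Set G) → E = C)
    (a : Af D q m (C ⊔ cj x C) K) (hx : x ∈ K) : cj s (cj x C) = cj x⁻¹ C := by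
  have sK := a.norK c.toNm hC le_sup_left (c.norW hs (sp_sup (sp_mem hC) (sp_mem (c.inv C hC x)))
    (sp_le_iff.2 fun E hE h => (u E hE (le_cen.1 h)).le.trans le_sup_left))
  have hx' := nor_conj sK hx
  have sC' := cj_eq_iff.2 (centralizer_le_normalizer _ sC)
  have h1 := cj_eq_iff.2 (centralizer_le_normalizer _ (cen_anti le_sup_left
    (a.cm hm (K.inv_mem hx') (K.inv_mem hx)).2))
  have si : s⁻¹ = s := inv_eq_of_mul_eq_one_right hs
  have h2 : cj s (cj (x * (s * x * s⁻¹)) C) = cj (x * (s * x * s⁻¹)) C := by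
    rw [cj_cj, show s * (x * (s * x * s⁻¹)) = (x * (s * x * s⁻¹)) *
      ((s * x * s⁻¹)⁻¹ * x⁻¹ * (s * x * s⁻¹)⁻¹⁻¹ * x⁻¹⁻¹) * s by
        calc _ = s * x * s * x * s⁻¹ := by group
          _ = s * x * s⁻¹ * x * s := by rw [si]
          _ = _ := by group, cj_mul sC', cj_mul h1]
  have h3 := u _ (c.inv C hC _) (c.cen2 hs (c.inv C hC _) (cj_eq_iff.1 h2))
  rw [cj_cj, show s * x = x⁻¹ * (x * (s * x * s⁻¹)) * s by group, cj_mul sC', cj_mul h3]

theorem Cf.odd_core (c : Cf D p q m) : Cfsg.pPrimeCore 2 G = ⊥ :=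
  c.sol _ inferInstance (FT.ftThm _ (Nat.coprime_two_right.1 (H4.coprime_card_pPrimeCore 2 G)))

theorem Cf.two_mem (c : Cf D p q m) (hm : ¬ m) (ht : orderOf t = 2) (hC : C ∈ D)
    (tC : t ∈ centralizer (C : Set G)) : ∃ E ∈ D, t ∈ centralizer (E : Set G) ∧ E ≠ C := by
  by_contra! u
  have tt := L.mul_self_of_orderOf ht
  have hi : Cfsg.IsIsolated t := fun g hg => by
    have ss : g * t * g⁻¹ * (g * t * g⁻¹) = 1 := by rw [conj_mul, tt]; group
    have k : ∀ E ∈ D, g * t * g⁻¹ ∈ centralizer (E : Set G) → cj g⁻¹ E = C := fun E hE h =>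
      u _ (c.inv E hE _) (by simpa [mul_assoc] using cen_cj h g⁻¹)
    generalize g * t * g⁻¹ = s at hg ss k
    have sC : s ∈ centralizer (C : Set G) := c.cen2 ss hC (cj_eq_iff.1 (u _ (c.inv C hC s) (by
      have := cen_cj tC s
      rwa [← hg.eq, mul_inv_cancel_right] at this)))
    have h : t * s = 1 := c.cen_eq fun B hB => c.cen2 (by
        rw [mul_assoc, ← mul_assoc s, ← hg.eq, mul_assoc, ss, mul_one, tt]) hB (cj_eq_iff.1 (by
      obtain ⟨K, a⟩ := c.af2 hC hB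
      obtain ⟨x, hx, rfl⟩ := a.conj c.toNm hC le_sup_left hB le_sup_right
      rw [← cj_cj, c.refl hm ss hC sC (fun E hE h => cj_inj ((k E hE h).trans (k C hC sC).symm))
        a hx, ← c.refl hm tt hC tC u a hx, cj_cj t t, tt, cj_one]))
    exact mul_left_cancel (h.trans tt.symm)
  have h := L.zstar' ht hi
  have : t = 1 := c.cen_eq fun A hA a _ => by
    have := h a
    rw [c.odd_core, mem_bot] at this
    exact commutatorElement_eq_one_iff_mul_comm.1 this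
  simp [this] at ht

/-- maximal closed subgroups -/
def Mx (D : Set (Subgroup G)) (H : Subgroup G) : Prop :=
  H ≠ ⊤ ∧ sp D H = H ∧ ∀ W, W ≠ ⊤ → sp D W = W → H ≤ W → W = H

theorem Mx.cj (h : Mx D H) (inv : ∀ A ∈ D, ∀ g : G, cj g A ∈ D) (g : G) : Mx D (cj g H) := by
  have k : ∀ (g : G) (W : Subgroup G), W ≠ ⊤ → FB.cj g W ≠ ⊤ := fun g W h e =>
    h (cj_inj (e.trans (H4.conjS_eq_of_normal g ⊤).symm))
  refine ⟨k g H h.1, by rw [sp_cj inv, h.2.1], fun W h1 h2 h3 => ?_⟩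
  rw [← h.2.2 _ (k g⁻¹ W h1) (by rw [sp_cj inv, h2]) (by
    have := cj_mono g⁻¹ h3
    rwa [cj_cj, inv_mul_cancel, cj_one] at this), cj_cj, mul_inv_cancel, cj_one]

theorem Cf.half (c : Cf D p q m) (hm : ¬ m) (tt : t * t = 1) (hC : C ∈ D)
    (tC : t ∈ centralizer (C : Set G)) {H' : Subgroup G} (h : Mx D H) (h' : Mx D H') (ne : H' ≠ H)
    (l : sp D (centralizer {t}) ≤ H) (l' : sp D (centralizer {t}) ≤ H')
    (b : Af D q m (sp D (centralizer {t})) R) : H ≤ normalizer (R : Set G) := by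
  have n := c.toNm
  have CT : C ≤ sp D (centralizer {t}) := le_sp hC (le_cen.2 tC)
  have CH := CT.trans l
  obtain ⟨K, a⟩ := c.af H h.1 h.2.1
  obtain ⟨K', a'⟩ := c.af H' h'.1 h'.2.1
  have nl : ¬ H' ≤ H := fun e => ne (h'.2.2 H h.1 h.2.1 e).symm
  have tH := c.norW tt h.2.1 l
  have tK := a.norK n hC CH tH
  have ti : t⁻¹ = t := inv_eq_of_mul_eq_one_right tt
  have tZ : ∀ ζ ∈ K ⊓ centralizer (H : Set G), t * ζ * t⁻¹ = ζ := fun ζ hζ => by
    by_contra e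
    have h1 := cj_eq_iff.2 (c.norW tt (h'.cj c.inv ζ).2.1 (by
      have := cj_mono ζ l'
      rwa [cj_eq_iff.2 (centralizer_le_normalizer _ (cen_anti l hζ.2))] at this))
    refine nl (c.lemM hm h.1 h.2.1 h.2.2 a (z := ζ⁻¹ * (t * ζ * t⁻¹))
      (K.mul_mem (K.inv_mem hζ.1) (nor_conj tK hζ.1)) (Subgroup.mul_mem _ (Subgroup.inv_mem _ hζ.2)
      (nor_conj (H4.normalizer_le_normalizer_centralizer _ tH) hζ.2))
      (fun e' => e (by rw [inv_mul_eq_one] at e'; exact e'.symm)) hC CH h'.1 h'.2.1 (CT.trans l')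
      (cj_eq_iff.1 ?_))
    rw [← cj_cj, ← cj_cj, ← cj_cj, cj_eq_iff.2 (Subgroup.inv_mem _ (c.norW tt h'.2.1 l')), h1, cj_cj,
      inv_mul_cancel, cj_one]
  have RK := b.mono n hC CT a l
  have RK' := b.mono n hC CT a' l'
  have Rt : ∀ r ∈ R, t * r * t⁻¹ = r := fun r hr => by
    rw [← mem_centralizer_singleton_iff.1 (sp_le (b.le hr)), mul_inv_cancel_right]
  have Rc : R ≤ centralizer (R : Set G) := fun r hr s hs' =>
    commutatorElement_eq_one_iff_mul_comm.1 (c.max_cen h.2.1 h.2.2 h'.2.1 nl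
      (a.cm hm (RK hs') (RK hr)).2 (a'.cm hm (RK' hs') (RK' hr)).2)
  have fx : ∀ y ∈ K, y⁻¹ * (t * y * t⁻¹) ∈ centralizer (H : Set G) →
      y ∈ centralizer (R : Set G) := fun y hy e => by
    have h1 : cj t (cj y C) = cj y C := by
      rw [cj_cj, show t * y = y * ((y⁻¹ * (t * y * t⁻¹)) * t) by group, ← cj_cj, ← cj_cj,
        cj_eq_iff.2 (centralizer_le_normalizer _ tC),
        cj_eq_iff.2 (centralizer_le_normalizer _ (cen_anti CH e))]
    obtain ⟨r, hr, e2⟩ := b.conj n hC CT (c.inv C hC y)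
      (le_sp (c.inv C hC y) (le_cen.2 (c.cen2 tt (c.inv C hC y) (cj_eq_iff.1 h1))))
    have h2 := a.nc n hC CH (K.mul_mem (K.inv_mem (RK hr)) hy) (cj_eq_iff.1 (by
      rw [← cj_cj, ← e2, cj_cj, inv_mul_cancel, cj_one]))
    simpa using Subgroup.mul_mem _ (Rc hr) (cen_anti (b.le.trans l) h2)
  rw [← a.sup C hC CH]
  refine sup_le (H4.le_normalizer_of_le_centralizer fun x hx => ?_) (CT.trans b.nor)
  have hx' := nor_conj tK hx
  have h1 : x * (t * x * t⁻¹) ∈ centralizer (R : Set G) := fx _ (K.mul_mem hx hx') (by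
    have := (a.cm hm (K.inv_mem hx') (K.inv_mem hx)).2
    rwa [show (t * x * t⁻¹)⁻¹ * x⁻¹ * (t * x * t⁻¹)⁻¹⁻¹ * x⁻¹⁻¹ =
      (x * (t * x * t⁻¹))⁻¹ * (t * (x * (t * x * t⁻¹)) * t⁻¹) by
        calc _ = (x * (t * x * t⁻¹))⁻¹ * (t * x * t⁻¹ * x * (t * t⁻¹)) := by group
          _ = (x * (t * x * t⁻¹))⁻¹ * (t * x * t * x * (t⁻¹ * t⁻¹)) := by rw [ti]
          _ = _ := by group] at this)
  have h2 : x⁻¹ * (t * x * t⁻¹) ∈ centralizer (R : Set G) := fun r hr => by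
    have e1 := tZ _ (a.cm hm hx (RK hr))
    have e2 : (t * x * t⁻¹) * r * (t * x * t⁻¹)⁻¹ = x * r * x⁻¹ := by
      calc _ = (t * x * t⁻¹) * (t * r * t⁻¹) * (t * x * t⁻¹)⁻¹ * (t * r * t⁻¹)⁻¹ * r := by
            rw [Rt r hr]; group
        _ = t * (x * r * x⁻¹ * r⁻¹) * t⁻¹ * r := by group
        _ = _ := by rw [e1]; group
    calc r * (x⁻¹ * (t * x * t⁻¹)) = x⁻¹ * (x * r * x⁻¹) * (t * x * t⁻¹) := by group
      _ = _ := by rw [← e2]; group
  have h3 : x ^ 2 ∈ centralizer (R : Set G) := by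
    have := Subgroup.mul_mem _ h1 (Subgroup.inv_mem _ h2)
    rwa [show x * (t * x * t⁻¹) * (x⁻¹ * (t * x * t⁻¹))⁻¹ = x ^ 2 by rw [pow_two]; group] at this
  obtain ⟨k, hk⟩ := (n.qodd a.pg).of_dvd_nat (K.orderOf_dvd_natCard hx)
  have h4 : x = (x ^ 2) ^ (k + 1) := by
    rw [← pow_mul, show 2 * (k + 1) = 2 * k + 1 + 1 by ring, ← hk, pow_succ, pow_orderOf_eq_one,
      one_mul]
  rw [h4]; exact Subgroup.pow_mem _ h3 _

theorem Cf.c5 (c : Cf D p q m) (ht : orderOf t = 2) (hL : L ≠ ⊤) (sL : sp D L = L)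
    (a : Af D q m L K) (hC : C ∈ D) (CL : C ≤ L)
    (tC : t ∈ centralizer (C : Set G)) (zK : z ∈ K) (zC : z ∈ centralizer (C : Set G))
    (zt : Commute z t) : ∃ N : Subgroup G, IsPGroup q N ∧ z ∈ N ∧ N ≤ centralizer {t} ∧
      centralizer {t} ≤ normalizer (N : Set G) := by
  by_cases z1 : z = 1
  · exact ⟨⊥, IsPGroup.of_bot, mem_bot.2 z1, bot_le, le_normalizer_of_normal⟩
  have hm : ¬ m := fun hm => z1 (mem_bot.1 (a.m1 hm C hC CL ▸ (⟨zK, zC⟩ : z ∈ K ⊓ _)))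
  have n := c.toNm
  have tt := _root_.L.mul_self_of_orderOf ht
  have t1 : t ≠ 1 := by rintro rfl; simp at ht
  have LH : L ≤ sp D (centralizer {z}) := sL.ge.trans (sp_mono (le_cen.2 (a.cen C hC CL ⟨zK, zC⟩)))
  have h : Mx D (sp D (centralizer {z})) := ⟨c.cen_ne z1, sp_sp, fun W h1 h2 h3 => by
    obtain ⟨K', a'⟩ := c.af W h1 h2
    exact le_antisymm (h2.ge.trans (sp_mono (le_cen.2 (a'.cen C hC (CL.trans (LH.trans h3))
      ⟨a.mono n hC CL a' (LH.trans h3) zK, zC⟩)))) h3⟩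
  have zH : z ∈ centralizer (sp D (centralizer {z}) : Set G) := le_cen.1 sp_le
  generalize sp D (centralizer {z}) = H at h LH zH
  obtain ⟨K', a'⟩ := c.af H h.1 h.2.1
  have zK' := a.mono n hC CL a' LH zK
  have CT : C ≤ sp D (centralizer {t}) := le_sp hC (le_cen.2 tC)
  have cn : centralizer {t} ≤ normalizer (sp D (centralizer {t}) : Set G) :=
    le_normalizer.trans (nor_sp c.inv _)
  have l : sp D (centralizer {t}) ≤ H := c.lemM hm h.1 h.2.1 h.2.2 a' zK' zH z1 hC (CL.trans LH)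
    (c.cen_ne t1) sp_sp CT (cn (mem_centralizer_singleton_iff.2 zt.eq))
  have key : centralizer {t} ≤ normalizer (H : Set G) := fun g hg => by
    by_contra e
    rw [← cj_eq_iff] at e
    have l' : sp D (centralizer {t}) ≤ cj g H := (cj_eq_iff.2 (cn hg)).ge.trans (cj_mono g l)
    obtain ⟨R, b⟩ := c.af _ (c.cen_ne t1) sp_sp
    obtain ⟨E, hE, tE, EC⟩ := c.two_mem hm ht hC tC
    have R1 : R ≠ ⊥ := fun e => EC (n.eq_of_le hE hC (by
      have := b.sup C hC CT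
      rw [e, bot_sup_eq] at this
      exact (le_sp hE (le_cen.2 tE)).trans this.ge))
    have h' := h.cj c.inv g
    have h1 := h.2.1.ge.trans (sp_mono (c.half hm tt hC tC h h' e l l' b))
    have h2 := h'.2.1.ge.trans (sp_mono (c.half hm tt hC tC h' h (Ne.symm e) l' l b))
    exact e ((h'.2.2 _ (c.nor_ne b.pg R1) sp_sp h2).symm.trans (h.2.2 _ (c.nor_ne b.pg R1) sp_sp h1))
  exact ⟨(K' ⊓ centralizer (H : Set G)) ⊓ centralizer {t}, a'.pg.to_le (inf_le_left.trans inf_le_left),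
    ⟨⟨zK', zH⟩, mem_centralizer_singleton_iff.2 zt.eq⟩, inf_le_right, H4.le_normalizer_inf
    (H4.le_normalizer_inf (key.trans (a'.norK n hC (CL.trans LH))) (H4.le_normalizer_centralizer key))
    le_normalizer⟩

end FB
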