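import Cfsg.Agent.FB.C5

/-! The principal 2-block argument. -/

set_option autoImplicit false
set_option linter.unusedSectionVars false
set_option linter.unusedVariables false

namespace FB

open Subgroup Cfsg

variable {G : Type*} [Group G] [Finite G] {D : Set (Subgroup G)} {p q : ℕ} {m : Prop}
  {H K A B C P W X R T : Subgroup G} {x y z g t s w k : G}

theorem coset_conj (hw : w ∈ normalizer (K : Set G)) (hc : (orderOf w).Coprime (Nat.card K))
    (hk : k ∈ K) : ∃ x : G, ∃ z ∈ K, Commute z w ∧ x * (k * w) * x⁻¹ = z * w := by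
  obtain ⟨x, hx, h⟩ := H5.glauberman (A := zpowers w) (zpowers_le.2 hw)
    (by rwa [Nat.card_zpowers]) (.inl (isSolvable_of_comm fun a b => mul_comm' a b))
    (centralizer {k * w}) fun a ha => by
      obtain ⟨i, rfl⟩ := (mem_powers_iff_mem_zpowers.2 ha : a ∈ Submonoid.powers w)
      refine ⟨w ^ i * ((k * w) ^ i)⁻¹, ?_, by
        simpa using Subgroup.pow_mem _ (mem_centralizer_singleton_iff.2 rfl) i⟩
      clear ha
      induction i with
      | zero => simp
      | succ i ih =>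
        have := K.mul_mem (nor_conj hw ih) (K.inv_mem hk)
        rwa [show w * (w ^ i * ((k * w) ^ i)⁻¹) * w⁻¹ * k⁻¹ = w ^ (i + 1) * ((k * w) ^ (i + 1))⁻¹ by
          rw [pow_succ' w, pow_succ' (k * w)]; generalize (k * w) ^ i = v; generalize w ^ i = v'; group] at this
  have h1 := mem_centralizer_singleton_iff.1 (h w (mem_zpowers w))
  refine ⟨x, x * k * (w * x⁻¹ * w⁻¹), K.mul_mem (K.mul_mem hx hk) (nor_conj hw (K.inv_mem hx)), ?_,
    by group⟩
  calc x * k * (w * x⁻¹ * w⁻¹) * w = w⁻¹ * x * (x⁻¹ * w * x * (k * w)) * x⁻¹ := by group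
    _ = w⁻¹ * (x * k * (w * x⁻¹ * w⁻¹)) * w * w := by rw [h1]; group
    _ = _ := by
      have : w * (x * k * (w * x⁻¹ * w⁻¹)) = x * (x⁻¹ * w * x * (k * w)) * x⁻¹ * w⁻¹ := by group
      rw [this, h1]
      have h2 : x * k * (w * x⁻¹ * w⁻¹) * w * w = w * (x * k * (w * x⁻¹ * w⁻¹)) * w := by
        rw [this, h1]; group
      calc _ = w⁻¹ * (x * k * (w * x⁻¹ * w⁻¹) * w * w) := by group
        _ = _ := by rw [h2]; group

theorem Cf.val [Fintype G] (c : Cf D p q m) (hs : orderOf s = 2) (hA : A ∈ D) (hx : x ∈ A)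
    {χ : IrrCharacter G} (hχ : χ ∈ L.B0 2 G) : χ.1 (s * x) = χ.1 s := by
  have n := c.toNm
  have ss := L.mul_self_of_orderOf hs
  have s1 : s ≠ 1 := by rintro rfl; simp at hs
  have hB := c.inv A hA s
  obtain ⟨C, hC, CL, sC⟩ := c.lfix ss hA
  obtain ⟨K, a⟩ := c.af2 hA hB
  have sK := a.norK n hA le_sup_left (swap_nor ss A)
  obtain ⟨k, hk, e, he, rfl⟩ := a.dec hC CL (mem_sup_left hx)
  have se : Commute s e := (sC e he).symm
  obtain ⟨j, hj⟩ := c.hp.odd_of_ne_two c.p2
  have wp : (s * e) ^ p = s := by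
    rw [se.mul_pow, n.pow hC he, mul_one, hj, pow_succ, pow_mul, pow_two, ss, one_pow, one_mul]
  obtain ⟨g, z, zK, zw, h⟩ := coset_conj (w := s * e) (Subgroup.mul_mem _ sK (a.nor (CL he))) (by
    haveI := Fact.mk c.hq
    obtain ⟨i, hi⟩ := a.pg.exists_card_eq
    rw [hi]
    refine (Nat.Coprime.coprime_dvd_left (orderOf_dvd_of_pow_eq_one (n := p * 2) (by
      rw [pow_mul, wp, pow_two, ss])) (Nat.Coprime.mul_left ?_ ?_)).pow_right _
    · exact (Nat.coprime_primes c.hp c.hq).2 c.pq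
    · exact (Nat.coprime_primes Nat.prime_two c.hq).2 c.q2.symm) (nor_conj sK hk)
  have zs : Commute z s := wp ▸ zw.pow_right p
  have ze : Commute z e := by
    have := zs.mul_right zw
    rwa [← mul_assoc, ss, one_mul] at this
  have h2 : χ.1 (s * (k * e)) = χ.1 (s * (z * e)) := by
    rw [← L.irr_class χ _ g, show s * (k * e) = s * k * s⁻¹ * (s * e) by group, h, ← mul_assoc, zs.eq,
      mul_assoc]
  obtain ⟨N, pN, zN, N1, N2⟩ : ∃ N : Subgroup G, IsPGroup q N ∧ z * e ∈ sp D (centralizer {s}) ⊔ N ∧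
      N ≤ centralizer {s} ∧ centralizer {s} ≤ normalizer (N : Set G) := by
    by_cases e1 : e = 1
    · have : k = 1 := mem_bot.1 (n.disj hA a.pg ▸ (⟨hk, by simpa [e1] using hx⟩ : k ∈ K ⊓ A))
      have : z = 1 := by
        have h3 : g * s * g⁻¹ = z * s := by simpa [this, e1] using h
        have h4 : z ^ 2 = 1 := by
          calc _ = z ^ 2 * s ^ 2 := by rw [pow_two s, ss, mul_one]
            _ = _ := by rw [← zs.mul_pow, ← h3, conj_pow, pow_two, ss]; group
        exact orderOf_eq_one_iff.1 (Nat.eq_one_of_dvd_coprimes (Nat.coprime_two_right.2 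
          (n.qodd a.pg)) (K.orderOf_dvd_natCard zK) (orderOf_dvd_of_pow_eq_one h4))
      exact ⟨⊥, IsPGroup.of_bot, by simp [this, e1], bot_le, le_normalizer_of_normal⟩
    obtain ⟨N, h1, h2, h3⟩ := c.c5 hs (c.two A hA _ hB) (sp_sup (sp_mem hA) (sp_mem hB)) a hC CL sC zK
      (by rw [← n.zp hC he e1, H4.centralizer_zpowers]; exact mem_centralizer_singleton_iff.2 ze.eq) zs
    exact ⟨N, h1, Subgroup.mul_mem _ (mem_sup_right h2) (mem_sup_left (le_sp hC (le_cen.2 sC) he)), h3⟩
  have cn : centralizer {s} ≤ normalizer (sp D (centralizer {s}) : Set G) :=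
    le_normalizer.trans (nor_sp c.inv _)
  obtain ⟨R, b⟩ := c.af _ (c.cen_ne s1) sp_sp
  have o : Odd (Nat.card (sp D (centralizer {s}) ⊔ N : Subgroup G)) :=
    ((b.odd n hC (le_sp hC (le_cen.2 sC))).mul (n.qodd pN)).of_dvd_nat (H5.card_sup_dvd (N1.trans cn))
  have le : sp D (centralizer {s}) ⊔ N ≤ centralizer {s} := sup_le sp_le N1
  haveI : ((sp D (centralizer {s}) ⊔ N).subgroupOf (centralizer {s})).Normal :=
    (normal_subgroupOf_iff_le_normalizer le).2 (H4.le_normalizer_sup cn N2)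
  rw [h2]
  exact L.B0_apply_mul' (L.PElt_two_of_sq ss) (N := (sp D (centralizer {s}) ⊔ N).subgroupOf _)
    (by rw [Nat.card_congr (subgroupOfEquivOfLe le).toEquiv]; exact Nat.coprime_two_right.2 o) hχ
    (n := ⟨z * e, le zN⟩) zN

theorem Cf.false (c : Cf D p q m) : False := by
  classical
  haveI := Fintype.ofFinite G
  haveI := c.nt
  obtain ⟨S⟩ : Nonempty (Sylow 2 G) := inferInstance
  have ev : 2 ∣ Nat.card G := by
    by_contra h
    haveI := FT.ftThm G (Nat.odd_iff.2 (by omega))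
    exact top_ne_bot (c.sol ⊤ inferInstance inferInstance)
  haveI : Nontrivial S := (nontrivial_iff_ne_bot _).2 (S.ne_bot_of_dvd_card ev)
  haveI := S.isPGroup'.center_nontrivial
  obtain ⟨u, hu⟩ := exists_prime_orderOf_dvd_card' (G := center S) 2
    ((S.isPGroup'.to_subgroup _).card_eq_or_dvd.resolve_left Finite.one_lt_card.ne')
  have ht : orderOf (u.1.1 : G) = 2 := by rw [orderOf_coe, orderOf_coe, hu]
  have hi : ¬ 2 ∣ (H8.Cx (u.1.1 : G)).index := fun h => S.not_dvd_index (h.trans (index_dvd_of_le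
    fun y hy => mem_centralizer_singleton_iff.2
      (congrArg Subtype.val (mem_center_iff.1 u.2 ⟨y, hy⟩))))
  generalize (u.1.1 : G) = t at ht hi
  have tt := L.mul_self_of_orderOf ht
  have h1 : ∀ χ ∈ L.B0 2 G, χ = L.triv G := fun χ hχ => by
    have h2 : H8.charKer (H8.irr_isCharacter χ.2) = ⊤ := by
      rw [eq_top_iff, ← c.gen]
      refine sSup_le fun A hA x hx => (H8.mem_charKer _).2 ?_
      have h3 := L.sum_conj_mul χ t x
      have h4 : ∀ n : G, χ.1 (n * t * n⁻¹ * x) = χ.1 t := fun n => by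
        rw [c.val (by rw [← ht]; exact (MulAut.conj n).orderOf_eq t) hA hx hχ, L.irr_class χ]
      simp only [h4, Finset.sum_const, Finset.card_univ, nsmul_eq_mul,
        ← Nat.card_eq_fintype_card] at h3
      have h5 := H8.card_ne_zero_complex (G := G)
      have h6 := H8.irr_apply_one_ne_zero χ.2
      have h7 := H8.B0_apply_ne_zero hχ hi
      field_simp at h3
      exact h3.symm
    exact Subtype.ext (H8.irr_eq_one_of_forall χ.2 fun g =>
      (H8.mem_charKer (H8.irr_isCharacter χ.2)).mp (h2 ▸ mem_top g))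
  have h := L.B0_orth (p := 2) (L.PElt_two_of_sq tt) L.Reg_one (Commute.one_right t) L.PElt_one
    L.Reg_one (Commute.refl 1) (fun h => by rw [isConj_one_left.1 h] at ht; simp at ht)
  rw [Finset.sum_eq_single_of_mem _ L.triv_mem_B0 fun χ hχ h => absurd (h1 χ hχ) h] at h
  simp [L.triv] at h

end FB
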