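import Cfsg.Agent.FT.PF14
import Cfsg.Agent.L.ZStar
import Cfsg.Agent.H8.Blk
import Cfsg.Agent.H4.Quot
import Cfsg.Agent.H5.Coprime

/-! Groups generated by a class of subgroups of order `p`: definitions and basic facts. -/

set_option autoImplicit false
set_option linter.unusedSectionVars false
set_option linter.unusedVariables false

namespace FB

open Subgroup

variable {G : Type*} [Group G]

/-- `g A g⁻¹` -/
abbrev cj (g : G) (A : Subgroup G) : Subgroup G := A.map (MulAut.conj g).toMonoidHom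

/-- the join of the members of `D` inside `H` -/
def sp (D : Set (Subgroup G)) (H : Subgroup G) : Subgroup G := sSup {A | A ∈ D ∧ A ≤ H}

/-- `H = K A` with `K` a normal `q`-subgroup, `C_K(A)` central -/
structure Af (D : Set (Subgroup G)) (q : ℕ) (m : Prop) (H K : Subgroup G) : Prop where
  le : K ≤ H
  nor : H ≤ normalizer (K : Set G)
  pg : IsPGroup q K
  sup : ∀ A ∈ D, A ≤ H → K ⊔ A = H
  cen : ∀ A ∈ D, A ≤ H → K ⊓ centralizer (A : Set G) ≤ centralizer (H : Set G)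
  m1 : m → ∀ A ∈ D, A ≤ H → K ⊓ centralizer (A : Set G) = ⊥
  m2 : ¬ m → ⁅K, K⁆ ≤ centralizer (H : Set G)

/-- common numerical data -/
structure Nm (D : Set (Subgroup G)) (p q : ℕ) : Prop where
  hp : p.Prime
  hq : q.Prime
  p2 : p ≠ 2
  q2 : q ≠ 2
  pq : p ≠ q
  card : ∀ A ∈ D, Nat.card A = p
  inv : ∀ A ∈ D, ∀ g : G, cj g A ∈ D
  line : ∀ A ∈ D, ∀ B ∈ D, ∀ C ∈ D, ∀ E ∈ D, C ≠ E → C ≤ A ⊔ B → E ≤ A ⊔ B → C ⊔ E = A ⊔ B

/-- the hypotheses of the theorem -/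
structure Ba (D : Set (Subgroup G)) (p q : ℕ) (m : Prop) : Prop extends Nm D p q where
  h0 : ∀ A ∈ D, ∀ B ∈ D, ∃ Q : Subgroup G, IsPGroup q Q ∧ A ⊔ B ≤ normalizer (Q : Set G) ∧
    Q ⊔ A = A ⊔ B
  md : ∀ A ∈ D, ∀ B ∈ D, A ≠ B → (⁅⁅A ⊔ B, A ⊔ B⁆, ⁅A ⊔ B, A ⊔ B⁆⁆ = ⊥ ↔ m)

/-- the minimal nonsolvable configuration -/
structure Cf (D : Set (Subgroup G)) (p q : ℕ) (m : Prop) : Prop extends Nm D p q where
  gen : sSup D = ⊤
  nt : Nontrivial G
  sol : ∀ N : Subgroup G, N.Normal → Group.IsSolvable N → N = ⊥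
  af : ∀ H : Subgroup G, H ≠ ⊤ → sp D H = H → ∃ K, Af D q m H K
  two : ∀ A ∈ D, ∀ B ∈ D, A ⊔ B ≠ ⊤

variable {D : Set (Subgroup G)} {H K A B : Subgroup G} {g x : G}

theorem mem_cj : x ∈ cj g A ↔ g⁻¹ * x * g ∈ A := by
  constructor
  · rintro ⟨y, hy, rfl⟩; simpa [mul_assoc] using hy
  · intro h; exact ⟨_, h, by simp [mul_assoc]⟩

theorem cj_mem (hx : x ∈ A) : g * x * g⁻¹ ∈ cj g A := mem_cj.2 (by simpa [mul_assoc] using hx)

theorem cj_cj (g h : G) (A : Subgroup G) : cj g (cj h A) = cj (g * h) A := by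
  ext x; simp only [mem_cj, mul_inv_rev, mul_assoc]

theorem cj_one (A : Subgroup G) : cj 1 A = A := by ext x; simp only [mem_cj]; simp

theorem cj_mono (g : G) (h : A ≤ B) : cj g A ≤ cj g B := map_mono h

theorem cj_sup (g : G) (A B : Subgroup G) : cj g (A ⊔ B) = cj g A ⊔ cj g B := map_sup _ _ _

theorem cj_eq_iff : cj g A = A ↔ g ∈ normalizer (A : Set G) := by
  rw [mem_normalizer_iff'']
  simp only [SetLike.ext_iff, mem_cj, SetLike.mem_coe]
  exact forall_congr' fun _ => Iff.comm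

theorem cj_le (hg : g ∈ H) (h : A ≤ H) : cj g A ≤ H := by
  rintro _ ⟨y, hy, rfl⟩; exact H.mul_mem (H.mul_mem hg (h hy)) (H.inv_mem hg)

theorem cj_inj (h : cj g A = cj g B) : A = B := by
  have := congrArg (cj g⁻¹) h
  rwa [cj_cj, cj_cj, inv_mul_cancel, cj_one, cj_one] at this

theorem sp_le : sp D H ≤ H := sSup_le fun _ h => h.2

theorem le_sp (hA : A ∈ D) (h : A ≤ H) : A ≤ sp D H := le_sSup ⟨hA, h⟩

theorem sp_le_iff : sp D H ≤ K ↔ ∀ A ∈ D, A ≤ H → A ≤ K :=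
  sSup_le_iff.trans ⟨fun h A a b => h A ⟨a, b⟩, fun h A a => h A a.1 a.2⟩

theorem sp_mono (h : H ≤ K) : sp D H ≤ sp D K := sp_le_iff.2 fun _ a b => le_sp a (b.trans h)

theorem sp_sp : sp D (sp D H) = sp D H :=
  le_antisymm sp_le (sp_le_iff.2 fun _ a b => le_sp a (le_sp a b))

theorem sp_mem (hA : A ∈ D) : sp D A = A := le_antisymm sp_le (le_sp hA le_rfl)

theorem sp_sup (h : sp D H = H) (k : sp D K = K) : sp D (H ⊔ K) = H ⊔ K :=
  le_antisymm sp_le (sup_le (h.ge.trans (sp_mono le_sup_left)) (k.ge.trans (sp_mono le_sup_right)))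

theorem sp_cj (inv : ∀ A ∈ D, ∀ g : G, cj g A ∈ D) (g : G) (H : Subgroup G) :
    sp D (cj g H) = cj g (sp D H) := by
  have k : ∀ (g : G) (H : Subgroup G), cj g (sp D H) ≤ sp D (cj g H) := fun g H => by
    rw [map_le_iff_le_comap, sp_le_iff]
    exact fun A a b => map_le_iff_le_comap.1 (le_sp (inv A a g) (cj_mono g b))
  refine le_antisymm ?_ (k g H)
  have := cj_mono g (k g⁻¹ (cj g H))
  rwa [cj_cj, cj_cj, mul_inv_cancel, inv_mul_cancel, cj_one, cj_one] at this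

theorem nor_sp (inv : ∀ A ∈ D, ∀ g : G, cj g A ∈ D) (H : Subgroup G) :
    normalizer (H : Set G) ≤ normalizer (sp D H : Set G) := fun g hg => by
  rw [← cj_eq_iff] at hg ⊢; rw [← sp_cj inv, hg]

end FB
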