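import Cfsg.Agent.FB.Bas

/-! The affine case: the central quotient is a Frobenius group of odd order. -/

set_option autoImplicit false
set_option linter.unusedSectionVars false
set_option linter.unusedVariables false

namespace FB

open Subgroup
open scoped Pointwise

universe u

variable {G : Type u} [Group G] [Finite G] {D : Set (Subgroup G)} {p q : ℕ} {m : Prop}
  {K A : Subgroup G}

theorem fin_pow (b : Nm D p q) (hA : A ∈ D) {x : G} (hx : x ∈ A ⊔ center G) {y : G}
    (hy : y ∈ A ⊔ center G) : x * y = y * x := by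
  obtain ⟨a, ha, z, hz, rfl⟩ := (H4.mem_sup_of_le_normalizer_right le_normalizer_of_normal).1 hx
  obtain ⟨c, hc, w, hw, rfl⟩ := (H4.mem_sup_of_le_normalizer_right le_normalizer_of_normal).1 hy
  have h1 := mem_center_iff.1 hz
  have h2 := mem_center_iff.1 hw
  have h3 : c * a = a * c := b.comm hA ha c hc
  calc a * z * (c * w) = a * (z * c) * w := by group
    _ = a * c * (z * w) := by rw [← h1 c]; group
    _ = c * a * (w * z) := by rw [h3, h1 w]
    _ = c * (a * w) * z := by group
    _ = _ := by rw [h2 a]; group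

theorem fin (b : Nm D p q) (gen : sSup D = ⊤) (hG : ¬ IsMulCommutative G) (a : Af D q m ⊤ K) :
    Odd (Nat.card (G ⧸ center G)) ∧
      ∃ H : Subgroup (G ⧸ center G), Cfsg.IsFrobeniusComplement H := by
  obtain ⟨A, hA⟩ : ∃ A, A ∈ D := by
    by_contra h
    push Not at h
    rw [Set.eq_empty_of_forall_notMem h, sSup_empty] at gen
    exact hG ⟨⟨fun x y => by
      rw [mem_bot.1 (gen.ge (mem_top x)), mul_one, one_mul]⟩⟩
  have nt : ¬ ⊤ ≤ A ⊔ center G := fun h =>
    hG ⟨⟨fun x y => fin_pow b hA (h (mem_top x)) (h (mem_top y))⟩⟩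
  have cmp : (A.map (QuotientGroup.mk' (center G))).comap (QuotientGroup.mk' (center G)) =
      A ⊔ center G := by rw [comap_map_eq, QuotientGroup.ker_mk']
  have nz : ¬ A ≤ center G := fun h => nt (gen.ge.trans (sSup_le fun B hB => by
    obtain ⟨x, -, rfl⟩ := a.conj b hA le_top hB le_top
    rintro _ ⟨y, hy, rfl⟩
    exact mem_sup_right ((inferInstance : (center G).Normal).conj_mem y (h hy) x)))
  refine ⟨Odd.of_dvd_nat (by simpa using a.odd b hA le_top) (card_quotient_dvd_card _),
    A.map (QuotientGroup.mk' _), fun h => nz ?_, fun h => nt ?_, fun g hg => ?_⟩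
  · rwa [Subgroup.map_eq_bot_iff, QuotientGroup.ker_mk'] at h
  · rw [← cmp, h, comap_top]
  · obtain ⟨g, rfl⟩ := QuotientGroup.mk'_surjective _ g
    by_contra h
    obtain ⟨_, ⟨⟨x, hx, rfl⟩, h1⟩, x1⟩ := (bot_or_exists_ne_one _).resolve_left h
    refine hg ?_
    replace h1 := mem_pointwise_smul_iff_inv_smul_mem.1 h1
    have h2 : g⁻¹ * x * g ∈ A ⊔ center G := by
      rw [← cmp, mem_comap]; simpa using h1
    have x1' : x ≠ 1 := by rintro rfl; exact x1 (map_one _)
    have h3 : cj g⁻¹ A ≤ A ⊔ center G := by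
      have := (b.zp hA hx x1').symm
      nth_rewrite 1 [this]
      rw [cj, MonoidHom.map_zpowers, zpowers_le]
      simpa using h2
    haveI := Fact.mk b.hp
    have h4 : cj g⁻¹ A ≤ A := (a.sylA b hA le_top).le_of_le_normalizer'
      (b.pg (b.inv A hA _)) le_top (h3.trans (sup_le le_normalizer (center_le_normalizer _)))
    have h5 : g⁻¹ ∈ normalizer (A : Set G) := cj_eq_iff.1 (b.eq_of_le (b.inv A hA _) hA h4)
    obtain ⟨k, hk, c, hc, e⟩ := a.dec hA le_top (mem_top g)
    have h6 : k ∈ normalizer (A : Set G) := by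
      rw [eq_mul_inv_of_mul_eq e]
      exact mul_mem (inv_mem_iff.1 h5) (inv_mem (le_normalizer hc))
    have h7 : k ∈ center G := mem_center_iff.2 fun y => a.nc b hA le_top hk h6 y (mem_top y)
    rw [← mem_comap, cmp, ← e]
    exact mul_mem (mem_sup_right h7) (mem_sup_left hc)

end FB
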