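import Cfsg.Agent.FB.B2
import Cfsg.Prelude.Def_Solvable

/-! The induction and the Frobenius quotient. -/

set_option autoImplicit false
set_option linter.unusedSectionVars false
set_option linter.unusedVariables false

namespace FB

open Subgroup
open scoped Pointwise

universe u

theorem main {p q : ℕ} {m : Prop} (n : ℕ) : ∀ (G : Type u) [Group G] [Finite G]
    (D : Set (Subgroup G)), Nat.card G = n → Ba D p q m → sSup D = ⊤ → ∃ K, Af D q m ⊤ K := by
  induction n using Nat.strong_induction_on with
  | _ n ih =>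
  intro G _ _ D hn b gen
  obtain ⟨K, _, h1, h2⟩ := b1 b gen (red b gen fun H hH sH => by
    obtain ⟨K, a⟩ := ih _ (by
      rw [← hn, ← card_top (G := G)]
      exact lt_of_le_of_ne (card_le_of_le le_top) fun e => hH (eq_of_le_of_card_ge le_top e.ge))
      H _ rfl (b.sub H) (gen_sub sH)
    exact ⟨_, Af.of_sub (b.sub H).toNm a⟩)
  exact ⟨K, b23 b gen h1 h2⟩

variable {G : Type u} [Group G] [Finite G] {D : Set (Subgroup G)} {p q : ℕ} {m : Prop}
  {K : Subgroup G}

theorem fin2 (n : Nm D p q) (gen : sSup D = ⊤) (hG : ¬ IsMulCommutative G) (a : Af D q m ⊤ K) :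
    Odd (Nat.card (G ⧸ center G)) ∧
      ∃ H : Subgroup (G ⧸ center G), Cfsg.IsFrobeniusComplement H := by
  haveI := Fact.mk n.hp
  obtain ⟨A, hA⟩ : ∃ A, A ∈ D := by
    by_contra h
    exact hG (comm_of gen fun A hA => (h ⟨A, hA⟩).elim)
  have nn : ¬ ⊤ ≤ normalizer (A : Set G) := fun h => by
    have k : ∀ B ∈ D, B = A := fun B hB => by
      obtain ⟨x, -, rfl⟩ := a.conj n hA le_top hB le_top
      exact cj_eq_iff.2 (h (mem_top x))
    exact hG (comm_of gen fun B hB C hC => by rw [k B hB, k C hC]; exact n.comm hA)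
  set f := QuotientGroup.mk' (center G) with hf
  have zc : A ⊔ center G ≤ centralizer (A : Set G) := sup_le (n.comm hA) (center_le_centralizer _)
  have cm : (A.map f).comap f = A ⊔ center G := by rw [comap_map_eq, QuotientGroup.ker_mk']
  have nz : ¬ A ≤ center G := fun h => nn (by
    haveI : A.Normal := ⟨fun x hx g => by
      rwa [mem_center_iff.1 (h hx) g, mul_inv_cancel_right]⟩
    exact le_normalizer_of_normal)
  have card : Nat.card (A.map f) = p := by
    rw [← n.card A hA, ← relIndex_ker, QuotientGroup.ker_mk', ← inf_relIndex_right,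
      (n.inf hA _).resolve_right nz, relIndex_bot_left]
  refine ⟨(card_top (G := G) ▸ a.odd n hA le_top).of_dvd_nat (card_quotient_dvd_card _), A.map f,
    ne_bot' n.hp card, fun e => nn ?_, fun g hg => ?_⟩
  · rw [e, comap_top] at cm
    exact cm.le.trans (zc.trans (centralizer_le_normalizer _))
  · obtain ⟨g, rfl⟩ := QuotientGroup.mk'_surjective _ g
    change _ ⊓ cj (f g) _ = ⊥
    refine (inf' n.hp ((H4.card_conjS _ _).trans card) _).resolve_right fun h => hg ?_
    obtain ⟨k, hk, b, hb, rfl⟩ := a.dec hA le_top (mem_top g)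
    change cj _ _ ≤ _ at h
    rw [← map_cj, map_le_iff_le_comap, cm, cj_mul (cj_eq_iff.2 (le_normalizer hb))] at h
    have := (a.sylA n hA le_top).le_of_le_normalizer' (n.pg (n.inv A hA k)) le_top
      (h.trans (zc.trans (centralizer_le_normalizer _)))
    have hz := a.nc n hA le_top hk (H4.mem_normalizer_of_conjS_le this)
    rw [map_mul, show f k = 1 from (QuotientGroup.eq_one_iff k).2
      (mem_center_iff.2 fun g => hz g (mem_top g)), one_mul]
    exact ⟨b, hb, rfl⟩

end FB
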