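import Cfsg.Agent.FB.Bas

/-! A central element of a maximal closed subgroup normalizes no other closed subgroup meeting it. -/

set_option autoImplicit false
set_option linter.unusedSectionVars false
set_option linter.unusedVariables false

namespace FB

open Subgroup

variable {G : Type*} [Group G] [Finite G] {D : Set (Subgroup G)} {p q : ℕ} {m : Prop}
  {H K A B C P W X L R : Subgroup G} {x y z g : G}

theorem cen_anti (h : A ≤ B) : centralizer (B : Set G) ≤ centralizer (A : Set G) :=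
  centralizer_le h

theorem nor_conj (hg : g ∈ normalizer (A : Set G)) (hx : x ∈ A) : g * x * g⁻¹ ∈ A :=
  (mem_normalizer_iff.1 hg x).1 hx

theorem side (n : Nm D p q) (a : Af D q m X K) (l : Af D q m L R) (hA : A ∈ D) (AL : A ≤ L)
    (LX : L ≤ X) (sX : sp D X = X) (XL : ¬ X ≤ L) (hP : IsPGroup q P)
    (PX : P ≤ normalizer (X : Set G)) (PL : P ≤ centralizer (L : Set G))
    (BK : B ≤ K ⊓ centralizer (X : Set G)) (Rc : R ≤ centralizer (R : Set G))
    (hB : ∀ r ∈ R, ∀ x ∈ K, x * r * x⁻¹ * r⁻¹ ∈ centralizer (P : Set G) → x * r * x⁻¹ * r⁻¹ ∈ B) :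
    ∃ E ∈ D, E ≤ X ∧ ¬ E ≤ L ∧ E ≤ normalizer (((R ⊔ B) ⊔ P : Subgroup G) : Set G) := by
  haveI := Fact.mk n.hq
  have AX := AL.trans LX
  have RK : R ≤ K := l.mono n hA AL a LX
  have RX := l.le.trans LX
  set Z := K ⊓ centralizer (X : Set G) with hZ
  have PK := PX.trans (a.norK n hA AX)
  have PR := PL.trans (cen_anti l.le)
  have ZR : Z ≤ centralizer (R : Set G) := inf_le_right.trans (cen_anti RX)
  have ZR' := H4.le_normalizer_of_le_centralizer ZR
  have PM : P ≤ normalizer ((R ⊔ Z : Subgroup G) : Set G) := H4.le_normalizer_sup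
    (H4.le_normalizer_of_le_centralizer PR)
    (H4.le_normalizer_inf PK (H4.le_normalizer_centralizer PX))
  have MK : R ⊔ Z ≤ K := sup_le RK inf_le_left
  have MR : R ⊔ Z ≤ centralizer (R : Set G) := sup_le Rc ZR
  have ded : ((R ⊔ Z) ⊔ P) ⊓ K ≤ R ⊔ Z := by
    rw [H4.sup_inf_assoc_of_normalizer PM MK]
    exact sup_le le_rfl fun y hy => mem_sup_right
      ⟨hy.2, a.cen A hA AX ⟨hy.2, cen_anti AL (PL hy.1)⟩⟩
  have KM : ¬ K ≤ R ⊔ Z := fun h => XL (sX.ge.trans (sp_le_iff.2 fun E hE EX => by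
    obtain ⟨x, hx, rfl⟩ := a.conj n hA AX hE EX
    obtain ⟨r, hr, ζ, hζ, rfl⟩ := (H4.mem_sup_of_le_normalizer_left ZR').1 (h hx)
    rw [← cj_cj, cj_eq_iff.2 (centralizer_le_normalizer _ (cen_anti AX hζ.2))]
    exact cj_le (l.le hr) AL))
  have lt : (R ⊔ Z) ⊔ P < K ⊔ P := lt_of_le_of_ne (sup_le_sup_right MK _) fun h =>
    KM fun y hy => ded ⟨h ▸ mem_sup_left hy, hy⟩
  obtain ⟨y, ⟨y1, y2⟩, y3⟩ := SetLike.exists_of_lt
    (H5.lt_inf_normalizer_of_isPGroup (a.pg.to_sup_of_normal_left' hP PK) lt)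
  obtain ⟨k, hk, b, hb, rfl⟩ := (H4.mem_sup_of_le_normalizer_left PK).1 y1
  have kN : k ∈ normalizer (((R ⊔ Z) ⊔ P : Subgroup G) : Set G) := by
    simpa using Subgroup.mul_mem _ y2 (Subgroup.inv_mem _ (le_normalizer (mem_sup_right hb)))
  have kM : k ∉ R ⊔ Z := fun h => y3 (mul_mem_sup h hb)
  have kR : ∀ r ∈ R, k * r * k⁻¹ ∈ R ⊔ B := fun r hr => by
    have : k * r * k⁻¹ * r⁻¹ ∈ B := hB r hr k hk fun c hc => by
      have h1 : k⁻¹ * c * k * c⁻¹ ∈ R ⊔ Z := ded ⟨Subgroup.mul_mem _ (by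
        simpa using nor_conj (inv_mem kN) (mem_sup_right hc)) (Subgroup.inv_mem _ (mem_sup_right hc)), by
        simpa [mul_assoc] using mul_mem (inv_mem hk) (nor_conj (PK hc) hk)⟩
      have h2 := MR h1 r hr
      have h3 := PR hc r hr
      have h4 : c * r * c⁻¹ = r := by rw [← h3]; group
      have h5 : (k⁻¹ * c * k * c⁻¹) * r * (k⁻¹ * c * k * c⁻¹)⁻¹ = r := by rw [← h2]; group
      calc c * (k * r * k⁻¹ * r⁻¹)
          = k * ((k⁻¹ * c * k * c⁻¹) * (c * r * c⁻¹) * (k⁻¹ * c * k * c⁻¹)⁻¹) * k⁻¹ *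
            (c * r * c⁻¹)⁻¹ * c := by group
        _ = _ := by rw [h4, h5]
    simpa using mul_mem (mem_sup_right this : _ ∈ R ⊔ B) (mem_sup_left hr)
  refine ⟨cj k A, n.inv A hA k, cj_le (a.le hk) AX, fun h => kM ?_, ?_⟩
  · obtain ⟨r, hr, e⟩ := l.conj n hA AL (n.inv A hA k) h
    have h1 : r⁻¹ * k ∈ K := mul_mem (inv_mem (RK hr)) hk
    have h2 : r⁻¹ * k ∈ Z := ⟨h1, a.nc n hA AX h1 (cj_eq_iff.1 (by
      rw [← cj_cj, ← e, cj_cj, inv_mul_cancel, cj_one]))⟩
    simpa using mul_mem_sup hr h2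
  · rintro _ ⟨e, he, rfl⟩
    refine H4.mem_normalizer_of_conjS_le ?_
    rintro _ ⟨j, hj, rfl⟩
    have h1 : k⁻¹ * j * k ∈ (R ⊔ Z) ⊔ P := by
      simpa using nor_conj (inv_mem kN) (sup_le_sup_right (sup_le_sup_left BK R) P hj)
    obtain ⟨μ, hμ, c, hc, e1⟩ := (H4.mem_sup_of_le_normalizer_left PM).1 h1
    obtain ⟨r, hr, ζ, hζ, rfl⟩ := (H4.mem_sup_of_le_normalizer_left ZR').1 hμ
    have h2 : e * (ζ * c) * e⁻¹ = ζ * c := by
      rw [(mul_mem (cen_anti AX hζ.2) (cen_anti AL (PL hc)) : ζ * c ∈ centralizer (A : Set G)) e he]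
      group
    have h3 := kR _ (mul_mem (nor_conj (l.nor (AL he)) hr) (inv_mem hr))
    have h4 : j = k * (r * ζ * c) * k⁻¹ := by rw [e1]; group
    have h5 : (k * e * k⁻¹) * j * (k * e * k⁻¹)⁻¹ = (k * (e * r * e⁻¹ * r⁻¹) * k⁻¹) * j := by
      rw [h4]
      calc _ = k * (e * r * e⁻¹) * (e * (ζ * c) * e⁻¹) * k⁻¹ := by group
        _ = _ := by rw [h2]; group
    show (k * e * k⁻¹) * j * (k * e * k⁻¹)⁻¹ ∈ _
    rw [h5]
    exact mul_mem (mem_sup_left h3) hj

theorem Cf.lemM (c : Cf D p q m) (hm : ¬ m) (hH : H ≠ ⊤) (hs : sp D H = H)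
    (mx : ∀ W, W ≠ ⊤ → sp D W = W → H ≤ W → W = H) (a : Af D q m H K) (zK : z ∈ K)
    (zc : z ∈ centralizer (H : Set G)) (z1 : z ≠ 1) (hA : A ∈ D) (AH : A ≤ H) (hX : X ≠ ⊤)
    (sX : sp D X = X) (AX : A ≤ X) (zX : z ∈ normalizer (X : Set G)) : X ≤ H := by
  haveI := Fact.mk c.hq
  have n := c.toNm
  by_contra XH
  obtain ⟨X, ⟨hX, sX, AX, zX, XH⟩, big⟩ := Set.exists_max_image
    {X : Subgroup G | X ≠ ⊤ ∧ sp D X = X ∧ A ≤ X ∧ z ∈ normalizer (X : Set G) ∧ ¬ X ≤ H}
    (fun X => Nat.card (sp D (X ⊓ H)) * (Nat.card G + 1) + Nat.card X) (Set.toFinite _)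
    ⟨X, hX, sX, AX, zX, XH⟩
  have mx1 : ∀ W : Subgroup G, sp D W ≠ ⊤ → z ∈ normalizer (W : Set G) → X ≤ W →
      normalizer (W : Set G) ≤ normalizer (X : Set G) := fun W h1 h2 h3 => by
    have h4 : X ≤ sp D W := sX.ge.trans (sp_mono h3)
    have h5 := big _ ⟨h1, sp_sp, AX.trans h4, nor_sp c.inv W h2, fun h => XH (h4.trans h)⟩
    have h6 := card_le_of_le (sp_mono (D := D) (inf_le_inf_right H h4))
    have h7 := Nat.mul_le_mul_right (Nat.card G + 1) h6
    rw [eq_of_le_of_card_ge h4 (by omega)]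
    exact nor_sp c.inv W
  set L := sp D (X ⊓ H) with hL
  have LX : L ≤ X := sp_le.trans inf_le_left
  have LH : L ≤ H := sp_le.trans inf_le_right
  have AL : A ≤ L := le_sp hA (le_inf AX AH)
  obtain ⟨R, l⟩ := c.af L (fun h => hH (top_le_iff.1 (h.ge.trans LH))) sp_sp
  obtain ⟨K', a'⟩ := c.af X hX sX
  have triv : ∀ y, y ∈ centralizer (H : Set G) → y ∈ centralizer (X : Set G) → y = 1 :=
    fun y => c.max_cen hs mx sX XH
  have RK := l.mono n hA AL a LH
  have RK' := l.mono n hA AL a' LX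
  have Rc : R ≤ centralizer (R : Set G) := fun r hr s hs' =>
    commutatorElement_eq_one_iff_mul_comm.1
      (triv _ (a.cm hm (RK hs') (RK hr)).2 (a'.cm hm (RK' hs') (RK' hr)).2)
  have cn : ∀ y : G, centralizer {y} ≤ normalizer (centralizer ({y} : Set G) : Set G) :=
    fun y => le_normalizer
  have zH : centralizer {z} ≤ normalizer (H : Set G) := by
    rw [← mx _ (c.cen_ne z1) sp_sp (hs.ge.trans (sp_mono fun y hy =>
      mem_centralizer_singleton_iff.2 (zc y hy)))]
    exact (cn z).trans (nor_sp c.inv _)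
  set BH := (K ⊓ centralizer (H : Set G)) ⊓ normalizer (X : Set G) with hBH
  set BX := (K' ⊓ centralizer (X : Set G)) ⊓ centralizer {z} with hBX
  have cm : ∀ b ∈ centralizer (H : Set G), b ∈ normalizer (X : Set G) →
      ∀ e ∈ centralizer (X : Set G), e ∈ normalizer (H : Set G) → e * b = b * e :=
    fun b b1 b2 e e1 e2 => commutatorElement_eq_one_iff_mul_comm.1 (triv _
      (mul_mem (nor_conj (H4.normalizer_le_normalizer_centralizer _ e2) b1) (inv_mem b1)) (by
      simpa [commutatorElement_def, mul_assoc] using mul_mem e1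
        (nor_conj (H4.normalizer_le_normalizer_centralizer _ b2) (inv_mem e1))))
  have BB : BH ≤ centralizer (BX : Set G) := fun b hb e he => cm b hb.1.2 hb.2 e he.1.2 (zH he.2)
  have pH : IsPGroup q BH := a.pg.to_le (inf_le_left.trans inf_le_left)
  have pX : IsPGroup q BX := a'.pg.to_le (inf_le_left.trans inf_le_left)
  have HL : BH ≤ centralizer (L : Set G) := (inf_le_left.trans inf_le_right).trans (cen_anti LH)
  have XL : BX ≤ centralizer (L : Set G) := (inf_le_left.trans inf_le_right).trans (cen_anti LX)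
  have zB : z ∈ BH := ⟨⟨zK, zc⟩, zX⟩
  obtain ⟨E, hE, E1, E2, E3⟩ := side n a' l hA AL LX sX (fun h => XH (h.trans LH)) pH inf_le_right
    HL (inf_le_left : BX ≤ _) Rc fun r hr x hx h =>
      ⟨a'.cm hm hx (RK' hr), mem_centralizer_singleton_iff.2 (h z zB).symm⟩
  obtain ⟨F, hF, F1, F2, F3⟩ := side n a l hA AL LH hs
    (fun h => XH (mx X hX sX (h.trans LX)).le) pX (inf_le_right.trans zH)
    XL (inf_le_left : BH ≤ _) Rc fun r hr x hx h => by
      have h0 := a.cm hm hx (RK hr)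
      refine ⟨h0, ?_⟩
      rcases BX.bot_or_exists_ne_one with hb | ⟨e, he, e1⟩
      · by_cases R1 : R = ⊥
        · have : r = 1 := mem_bot.1 (R1 ▸ hr)
          rw [this]; simpa using one_mem _
        have Z1 : ∀ y ∈ K' ⊓ centralizer (X : Set G), y = 1 := by
          by_contra! hy
          obtain ⟨y, hy, y1⟩ := hy
          have zc' : zpowers z ≤ centralizer (H : Set G) := zpowers_le.2 zc
          have zn : zpowers z ≤ normalizer ((K' ⊓ centralizer (X : Set G) : Subgroup G) : Set G) :=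
            H4.le_normalizer_inf (zpowers_le.2 (a'.norK n hA AX zX))
              (H4.le_normalizer_centralizer (zpowers_le.2 zX))
          have lt : zpowers z < (K' ⊓ centralizer (X : Set G)) ⊔ zpowers z :=
            lt_of_le_of_ne le_sup_right fun h => y1 (triv y (zc' (h ▸ mem_sup_left hy)) hy.2)
          obtain ⟨w, ⟨w1, w2⟩, w3⟩ := SetLike.exists_of_lt (H5.lt_inf_normalizer_of_isPGroup
            ((a'.pg.to_le inf_le_left).to_sup_of_normal_left' (a.pg.to_le (zpowers_le.2 zK)) zn) lt)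
          obtain ⟨k, hk, b, hb', rfl⟩ := (H4.mem_sup_of_le_normalizer_left zn).1 w1
          have kN : k ∈ normalizer (zpowers z : Set G) := by
            simpa using Subgroup.mul_mem _ w2 (Subgroup.inv_mem _ (le_normalizer hb'))
          have : k ∈ BX := ⟨hk, mem_centralizer_singleton_iff.2
            (commutatorElement_eq_one_iff_mul_comm.1 (triv _
              (zc' (mul_mem (nor_conj kN (mem_zpowers z)) (inv_mem (mem_zpowers z)))) (by
              simpa [commutatorElement_def, mul_assoc] using mul_mem hk.2 (nor_conj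
                (H4.normalizer_le_normalizer_centralizer _ zX) (inv_mem hk.2)))))⟩
          rw [hb, mem_bot] at this
          exact w3 (by rw [this, one_mul]; exact hb')
        have cR : centralizer (H : Set G) ≤ normalizer ((normalizer (R : Set G) : Subgroup G) : Set G) :=
          ((cen_anti (l.le.trans LH)).trans (centralizer_le_normalizer _)).trans le_normalizer
        refine mx1 (normalizer (R : Set G)) (c.nor_ne l.pg R1) (cR zc) ?_ (cR h0.2)
        rw [← a'.sup A hA AX]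
        exact sup_le (H4.le_normalizer_of_le_centralizer fun k hk s hs' =>
          commutatorElement_eq_one_iff_mul_comm.1 (Z1 _ (a'.cm hm (RK' hs') hk))) (AL.trans l.nor)
      · exact mx1 (centralizer {e}) (c.cen_ne e1)
          (cn e (mem_centralizer_singleton_iff.2 (mem_centralizer_singleton_iff.1 he.2).symm))
          (fun y hy => mem_centralizer_singleton_iff.2 (he.1.2 y hy))
          (cn e (mem_centralizer_singleton_iff.2 (h e he).symm))
  rw [sup_right_comm] at F3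
  set J := (R ⊔ BX) ⊔ BH with hJ
  have pJ : IsPGroup q J := (a'.pg.to_le (sup_le RK' (inf_le_left.trans inf_le_left))
    ).to_sup_of_normal_left' pH (H4.le_normalizer_sup
      (H4.le_normalizer_of_le_centralizer (HL.trans (cen_anti l.le)))
      (H4.le_normalizer_of_le_centralizer BB))
  have zJ : z ∈ J := mem_sup_right zB
  have LJ : L ≤ sp D (normalizer (J : Set G)) := (sp_sp (D := D) (H := X ⊓ H)).ge.trans (sp_mono
    (H4.le_normalizer_sup (H4.le_normalizer_sup l.nor (H4.le_normalizer_of_le_centralizer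
      (le_centralizer_iff.1 XL))) (H4.le_normalizer_of_le_centralizer (le_centralizer_iff.1 HL))))
  have h1 := big _ ⟨c.nor_ne pJ fun h => z1 (mem_bot.1 (h ▸ zJ)), sp_sp, AL.trans LJ,
    nor_sp c.inv _ (le_normalizer (le_normalizer zJ)),
    fun h => E2 (le_sp hE (le_inf E1 ((le_sp hE E3).trans h)))⟩
  have h2 : L < sp D (sp D (normalizer (J : Set G)) ⊓ H) := lt_of_le_of_ne
    ((sp_sp (D := D) (H := X ⊓ H)).ge.trans (sp_mono (le_inf LJ LH))) fun h =>
    F2 ((le_sp hF (le_inf (le_sp hF F3) F1)).trans h.ge)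
  have h3 : Nat.card L < Nat.card (sp D (sp D (normalizer (J : Set G)) ⊓ H)) :=
    lt_of_le_of_ne (card_le_of_le h2.le) fun h => h2.ne (eq_of_le_of_card_ge h2.le h.ge)
  have h4 := Nat.mul_le_mul_right (Nat.card G + 1) (Nat.succ_le_of_lt h3)
  have h5 : Nat.card X ≤ Nat.card G := card_le_card_group X
  simp only [Nat.succ_mul] at h4 h1
  omega

end FB
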