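import Cfsg.Agent.FB.C6

/-! Reduction to the quotient by the solvable radical. -/

set_option autoImplicit false
set_option linter.unusedSectionVars false
set_option linter.unusedVariables false

namespace FB

open Subgroup

variable {G : Type*} [Group G] [Finite G] {D : Set (Subgroup G)} {p q : ℕ} {m : Prop}
  {H K A B C P W X R T : Subgroup G}

theorem map_cj {G' : Type*} [Group G'] (f : G →* G') (g : G) (A : Subgroup G) :
    (cj g A).map f = cj (f g) (A.map f) := by
  unfold cj; rw [map_map, map_map]; congr 1; ext x; simp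

theorem Af.map {G' : Type*} [Group G'] (f : G →* G') {D' : Set (Subgroup G')} (a : Af D q m H K)
    (n : Nm D p q) (hD : ∀ B ∈ D', B ≤ H.map f → ∃ A ∈ D, A ≤ H ∧ A.map f = B) :
    Af D' q m (H.map f) (K.map f) := by
  haveI := Fact.mk n.hq; haveI := Fact.mk n.hp
  have k : ∀ A ∈ D, A ≤ H → (K ⊓ centralizer (A : Set G)).map f =
      K.map f ⊓ centralizer (A.map f : Set G') := fun A hA AH => by
    obtain ⟨i, hi⟩ := (a.pg.to_le (inf_le_left : K ⊓ f.ker ≤ K)).exists_card_eq
    haveI := (n.pg hA).isNilpotent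
    exact H5.map_inf_centralizer f (AH.trans a.nor) (by
      rw [hi, n.card A hA]; exact ((Nat.coprime_primes n.hp n.hq).2 n.pq).pow_right _)
      (.inl inferInstance)
  refine ⟨map_mono a.le, (map_mono a.nor).trans (le_normalizer_map f), a.pg.map f,
    fun B hB h => ?_, fun B hB h => ?_, fun hm B hB h => ?_, fun hm => ?_⟩
  · obtain ⟨A, hA, AH, rfl⟩ := hD B hB h
    rw [← Subgroup.map_sup, a.sup A hA AH]
  · obtain ⟨A, hA, AH, rfl⟩ := hD B hB h
    rw [← k A hA AH]
    rintro _ ⟨x, hx, rfl⟩ _ ⟨y, hy, rfl⟩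
    rw [← map_mul, ← map_mul, a.cen A hA AH hx y hy]
  · obtain ⟨A, hA, AH, rfl⟩ := hD B hB h
    rw [← k A hA AH, a.m1 hm A hA AH, Subgroup.map_bot]
  · rw [← map_commutator]
    rintro _ ⟨x, hx, rfl⟩ _ ⟨y, hy, rfl⟩
    rw [← map_mul, ← map_mul, a.m2 hm hx y hy]

theorem Ba.sub (b : Ba D p q m) (H : Subgroup G) :
    Ba {A : Subgroup H | A.map H.subtype ∈ D} p q m := by
  have inj := map_injective H.subtype_injective
  refine ⟨⟨b.hp, b.hq, b.p2, b.q2, b.pq, fun A hA => ?_, fun A hA g => ?_,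
    fun A hA B hB C hC E hE ne h1 h2 => inj ?_⟩, fun A hA B hB => ?_, fun A hA B hB ne => ?_⟩
  · rw [← b.card _ hA, card_map_of_injective H.subtype_injective]
  · show _ ∈ D
    rw [map_cj]; exact b.inv _ hA _
  · rw [Subgroup.map_sup, Subgroup.map_sup]
    exact b.line _ hA _ hB _ hC _ hE (fun e => ne (inj e)) ((map_mono h1).trans (Subgroup.map_sup _ _ _).le)
      ((map_mono h2).trans (Subgroup.map_sup _ _ _).le)
  · obtain ⟨Q, h1, h2, h3⟩ := b.h0 _ hA _ hB
    have QH : Q ≤ H := le_sup_left.trans (h3.le.trans (sup_le (map_subtype_le _) (map_subtype_le _)))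
    refine ⟨Q.subgroupOf H, h1.comap_subtype, ?_, inj ?_⟩
    · rw [← Subgroup.map_sup, map_le_iff_le_comap] at h2
      exact h2.trans (le_normalizer_comap _)
    · rw [Subgroup.map_sup, Subgroup.map_sup, map_subgroupOf_eq_of_le QH, h3]
  · rw [← b.md _ hA _ hB fun e => ne (inj e), ← Subgroup.map_sup, ← map_commutator, ← map_commutator,
      map_eq_bot_iff_of_injective _ H.subtype_injective]

theorem gen_sub (h : sp D H = H) : sSup {A : Subgroup H | A.map H.subtype ∈ D} = ⊤ := by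
  refine map_injective H.subtype_injective (le_antisymm (map_mono le_top) ?_)
  rw [← MonoidHom.range_eq_map, range_subtype]
  refine h.ge.trans (sp_le_iff.2 fun A hA AH => ?_)
  rw [← map_subgroupOf_eq_of_le AH]
  exact map_mono (le_sSup (by show _ ∈ D; rwa [map_subgroupOf_eq_of_le AH]))

theorem Af.of_sub (n : Nm {A : Subgroup H | A.map H.subtype ∈ D} p q) {K : Subgroup H}
    (a : Af {A : Subgroup H | A.map H.subtype ∈ D} q m ⊤ K) : Af D q m H (K.map H.subtype) := by
  have e : (⊤ : Subgroup H).map H.subtype = H := by rw [← MonoidHom.range_eq_map, range_subtype]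
  have := a.map H.subtype (D' := D) n fun B hB h => by
    rw [e] at h
    exact ⟨B.subgroupOf H, by show _ ∈ D; rwa [map_subgroupOf_eq_of_le h], le_top,
      map_subgroupOf_eq_of_le h⟩
  rwa [e] at this

theorem Ba.odd (b : Ba D p q m) (hA : A ∈ D) (hB : B ∈ D) : Odd (Nat.card (A ⊔ B : Subgroup G)) := by
  obtain ⟨Q, h1, h2, h3⟩ := b.h0 A hA B hB
  rw [← h3]
  refine ((b.qodd h1).mul ?_).of_dvd_nat (H5.card_sup_dvd (le_sup_left.trans h2))
  rw [b.card A hA]; exact b.hp.odd_of_ne_two b.p2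

theorem red (b : Ba D p q m) (gen : sSup D = ⊤)
    (ih : ∀ H : Subgroup G, H ≠ ⊤ → sp D H = H → ∃ K, Af D q m H K) : Group.IsSolvable G := by
  by_contra ns
  have n := b.toNm
  haveI := Fact.mk n.hp
  obtain ⟨N, ⟨hN, sN⟩, big⟩ := Set.exists_max_image
    {N : Subgroup G | N.Normal ∧ Group.IsSolvable N} (fun N => Nat.card N) (Set.toFinite _)
    ⟨⊥, inferInstance, inferInstance⟩
  set f := QuotientGroup.mk' N with hf
  have sf : Function.Surjective f := QuotientGroup.mk'_surjective N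
  have nq : ¬ Group.IsSolvable (G ⧸ N) := fun h => ns (solvable_of_ker_le_range N.subtype f (by
    rw [QuotientGroup.ker_mk', range_subtype]))
  have two : ∀ A ∈ D, ∀ B ∈ D, (A ⊔ B).map f ≠ ⊤ := fun A hA B hB e => nq (FT.ftThm _ (by
    rw [← card_top, ← e]; exact (b.odd hA hB).of_dvd_nat (card_map_dvd _ _)))
  have af2 : ∀ A ∈ D, ∀ B ∈ D, ∃ K, Af D q m (A ⊔ B) K := fun A hA B hB =>
    ih _ (fun e => two A hA B hB (by rw [e, map_top_of_surjective f sf]))
      (sp_sup (sp_mem hA) (sp_mem hB))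
  have card : ∀ A ∈ D, Nat.card (A.map f) = p := fun A hA => by
    rcases n.inf hA N with h | h
    · rw [← n.card A hA, ← relIndex_ker, QuotientGroup.ker_mk', ← inf_relIndex_right, h,
        relIndex_bot_left]
    · have : N = ⊤ := by
        rw [eq_top_iff, ← gen]
        refine sSup_le fun B hB => ?_
        obtain ⟨K, a⟩ := af2 A hA B hB
        obtain ⟨x, -, rfl⟩ := a.conj n hA le_sup_left hB le_sup_right
        exact (cj_mono x h).trans (H4.conjS_eq_of_normal x N).le
      subst this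
      exact absurd (solvable_of_surjective (f := (⊤ : Subgroup G).subtype)
        fun x => ⟨⟨x, trivial⟩, rfl⟩) ns
  refine Cf.false (D := (fun A : Subgroup G => A.map f) '' D) (p := p) (q := q) (m := m)
    ⟨⟨n.hp, n.hq, n.p2, n.q2, n.pq, ?_, ?_, ?_⟩, ?_, ?_, ?_, ?_, ?_⟩
  · rintro _ ⟨A, hA, rfl⟩; exact card A hA
  · rintro _ ⟨A, hA, rfl⟩ g
    obtain ⟨g, rfl⟩ := sf g
    exact ⟨_, n.inv A hA g, map_cj f g A⟩
  · rintro _ ⟨A, hA, rfl⟩ _ ⟨B, hB, rfl⟩ C hC E hE ne h1 h2
    obtain ⟨K, a⟩ := af2 A hA B hB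
    have k : ∀ C ∈ (fun A : Subgroup G => A.map f) '' D, C ≤ A.map f ⊔ B.map f →
        ∃ C' ∈ D, C' ≤ A ⊔ B ∧ C'.map f = C := by
      rintro _ ⟨C, hC, rfl⟩ h
      rw [← Subgroup.map_sup] at h
      obtain ⟨_, ⟨x, hx, rfl⟩, e⟩ := ((a.sylA n hA le_sup_left).map f).exists_conj_le
        ((n.pg hC).map f) h
      have e' : cj (f x) (C.map f) = A.map f :=
        eq_of_le_of_card_ge e (by rw [H4.card_conjS, card A hA, card C hC])
      refine ⟨cj x⁻¹ A, n.inv A hA _, cj_le (Subgroup.inv_mem _ hx) le_sup_left, ?_⟩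
      rw [map_cj, ← e', cj_cj, map_inv, inv_mul_cancel, cj_one]
    obtain ⟨C', hC', h1', rfl⟩ := k C hC h1
    obtain ⟨E', hE', h2', rfl⟩ := k E hE h2
    rw [← Subgroup.map_sup, ← Subgroup.map_sup,
      n.line A hA B hB C' hC' E' hE' (fun e => ne (by rw [e])) h1' h2']
  · rw [eq_top_iff, ← map_top_of_surjective f sf, ← gen, map_le_iff_le_comap]
    exact sSup_le fun A hA => map_le_iff_le_comap.1 (le_sSup ⟨A, hA, rfl⟩)
  · by_contra h
    rw [not_nontrivial_iff_subsingleton] at h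
    exact nq inferInstance
  · intro M hM sM
    have h1 : N ≤ M.comap f := fun x hx => by
      rw [mem_comap, show f x = 1 from (QuotientGroup.eq_one_iff x).2 hx]; exact one_mem _
    have h2 : Group.IsSolvable (M.comap f) := solvable_of_ker_le_range (inclusion h1)
      (f.subgroupComap M) fun x hx =>
        ⟨⟨x.1, (QuotientGroup.eq_one_iff _).1 (congrArg Subtype.val hx)⟩, rfl⟩
    rw [← map_comap_eq_self_of_surjective sf M, ← eq_of_le_of_card_ge h1 (big _ ⟨inferInstance, h2⟩),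
      Subgroup.map_eq_bot_iff, QuotientGroup.ker_mk']
  · intro W hW sW
    have e : (sp D (W.comap f)).map f = W := le_antisymm (map_le_iff_le_comap.2 sp_le)
      (sW.ge.trans (sp_le_iff.2 (by
        rintro _ ⟨A, hA, rfl⟩ h
        exact map_mono (le_sp hA (map_le_iff_le_comap.1 h)))))
    obtain ⟨K, a⟩ := ih _ (fun h => hW (by rw [← e, h, map_top_of_surjective f sf])) sp_sp
    refine ⟨K.map f, e ▸ a.map f n ?_⟩
    rintro _ ⟨A, hA, rfl⟩ h
    exact ⟨A, hA, le_sp hA (map_le_iff_le_comap.1 (e ▸ h)), rfl⟩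
  · rintro _ ⟨A, hA, rfl⟩ _ ⟨B, hB, rfl⟩
    rw [← Subgroup.map_sup]; exact two A hA B hB

end FB
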